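import Groth.Agent.DecSh.K987.Sect
import Groth.Agent.S4285
import Groth.Agent.Pic13.H11.Transf
import Groth.Agent.Pic13.H952.FlatFam
import Groth.Agent.Pic13.H508.Calc

/-!
# Boundedness of coherent modules with bounded slopes on a proper curve

`isBounded_slope`: the coherent modules `F` with coherent submodules of slope `≤ C`, `α(F) = α`, `χ(F) = e` form a
bounded family.  `isBounded_slope_range`: the same for `0 ≤ α(F) ≤ A`, `|χ(F)| ≤ M`.
-/

set_option autoImplicit false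
universe u
open CategoryTheory CategoryTheory.Limits AlgebraicGeometry TopologicalSpace
open Groth.Agent.Fga.PicMon Groth.Agent.Fga Groth.Agent

namespace K987.DecShCurve

open Groth.Agent.Pic13.H11 Cls Amp NumU Emb

theorem mc_twistOn (k : Type u) [Field k] {X : Scheme.{u}} {n : ℕ} (i : X ⟶ CohB1.ProjSpace n k) (F : X.Modules)
    (d : ℤ) : mc (Pic13.twistOn k i F d) = pullU i (twistU k n 1) ^ d • mc F := by
  rw [Pic13.twistOn, mc_tensor, ← pullU_unit_val i (Sga67.SerreVB.isInvertible_twist n k d), Cls.smul_def,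
    ← map_zpow, ← twistU_eq, mul_comm]
  rfl

variable (k : Type u) [Field k] {X : Scheme.{u}} [X.Over (Spec (CommRingCat.of k))]
  [IsProper (X ↘ Spec (CommRingCat.of k))] (hdim : topologicalKrullDim X = 1) {L : X.Modules}
  (hL : CohB1.IsAmple L)

include hdim

theorem isBounded_slope [IsAlgClosed k] (C : ℚ) (α e : ℤ) :
    Pic13.IsBounded k X (fun F => Coh.IsCoh F ∧ SlopeLE k (unit hL.1) C (mc F) ∧
      al k (unit hL.1) (mc F) = α ∧ chi k (mc F) = e) := by
  have := IntAdd.isNoetherian k X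
  have := HypSec.isSeparated k X
  obtain ⟨w, hw⟩ := exists_isDz k hdim hL
  obtain ⟨N, hN⟩ := exists_van hdim.le hL hw C α e
  obtain ⟨n, r, i, hr, hi, his, hpull⟩ := Emb.exists_embedding k X hL
  obtain ⟨T, q, h1, h2, G, hG, h3⟩ := S4285.result k n X i his ((N + 1 : ℕ) : ℤ)
    (Polynomial.C (e : ℚ) + Polynomial.C ((α : ℚ) * r) * Polynomial.X)
  refine ⟨T, q, h1, h2, G, hG, fun F hF' => h3 F ?_⟩
  obtain ⟨hF, hs, hα, he⟩ := hF'
  refine ⟨hF, fun j hj => ?_, fun d => ?_⟩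
  · rw [← V_mc, mc_twistOn, hpull]
    rcases Nat.lt_or_ge 1 j with h | h
    · exact V_of_two_le k hdim.le (Co.smul (c := mc F) hF _) h
    · obtain rfl : j = 1 := le_antisymm h hj
      have e1 : ((N + 1 : ℕ) : ℤ) - ((1 : ℕ) : ℤ) = (N : ℤ) := by push_cast; ring
      rw [e1, zpow_natCast, ← pow_mul]
      exact hN _ (Nat.le_mul_of_pos_left N hr) (mc F) hF hs hα he
  · have h4 : Coh.IsQCoh (Pic13.twistOn k i F d) := by
      have h5 : Co (pullU i (twistU k n 1) ^ d • mc F) := Co.smul (c := mc F) hF _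
      rw [← mc_twistOn] at h5
      exact h5.1
    have key : FGA.eulerCharLE k X (Pic13.twistOn k i F d) n = Curv2.euler k X (Pic13.twistOn k i F d) :=
      (VarietyA.EulerAdd.euler_eq_sum k _ (n + 1) fun j hj =>
        Pic13.H952.FlatFam.subsingleton_HH_of_lt i _ h4 j (by omega)).symm
    rw [key, ← chi_mc, mc_twistOn, hpull, ← zpow_natCast, ← zpow_mul, chi_zpow_smul k hdim.le _ (c := mc F) hF, hα, he]
    simp
    ring

theorem isBounded_slope_range [IsAlgClosed k] (C : ℚ) (A M : ℤ) :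
    Pic13.IsBounded k X (fun F => Coh.IsCoh F ∧ SlopeLE k (unit hL.1) C (mc F) ∧
      (0 ≤ al k (unit hL.1) (mc F) ∧ al k (unit hL.1) (mc F) ≤ A) ∧ -M ≤ chi k (mc F) ∧ chi k (mc F) ≤ M) := by
  have h := Pic13.H508.Calc.isBounded_iUnion (k := k) (X := X) (ι := Set.Icc (0 : ℤ) A × Set.Icc (-M) M)
    (P := fun p F => Coh.IsCoh F ∧ SlopeLE k (unit hL.1) C (mc F) ∧
      al k (unit hL.1) (mc F) = p.1 ∧ chi k (mc F) = p.2) fun p => isBounded_slope k hdim hL C p.1 p.2
  refine Pic13.H508.Calc.isBounded_mono ?_ h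
  rintro F ⟨h1, h2, h3, h4⟩
  exact ⟨(⟨_, h3⟩, ⟨_, h4⟩), h1, h2, rfl, rfl⟩

end K987.DecShCurve
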