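import Groth.Agent.Pic13.H11.Amp
import Groth.Agent.CurvesB.TriT208C

/-!
# Multiplicities and slopes on classes of coherent modules on a proper curve

`X` proper over a field `k` of dimension `≤ 1`, `v` a unit of the class monoid `MC X` (the class of an invertible module).
* `al k v c = χ(v c) - χ(c)`: the multiplicity; `chi_pow_smul`, `chi_zpow_smul`: `χ(v^n c) = χ(c) + n α(c)`.
* `al_nonneg`, `al_pos_of_dim` for `v` ample.
* `Sub a c`: `a` is the class of a coherent submodule of a module of class `c`.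
* `PosSub`: nonzero coherent submodules have positive multiplicity; `SlopeLE`: coherent submodules have slope `≤ C`.
-/

set_option autoImplicit false
universe u
open CategoryTheory CategoryTheory.Limits AlgebraicGeometry TopologicalSpace
open Groth.Agent.Fga.PicMon Groth.Agent.Fga Groth.Agent

namespace K987.DecShCurve

open Groth.Agent.Pic13.H11 Cls Amp

section Over

variable (k : Type u) [Field k] {X : Scheme.{u}} [X.Over (Spec (CommRingCat.of k))]

/-- The multiplicity of a class with respect to a unit. -/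
noncomputable def al (v : (MC X)ˣ) (c : MC X) : ℤ := chi k (v • c) - chi k c

theorem chi_smul (v : (MC X)ˣ) (c : MC X) : chi k (v • c) = chi k c + al k v c := by
  rw [al]; ring

variable [IsProper (X ↘ Spec (CommRingCat.of k))] (hdim : topologicalKrullDim X ≤ 1)

include hdim

theorem chi_pow_smul (v : (MC X)ˣ) {c : MC X} (hc : Co c) (n : ℕ) :
    chi k (v ^ n • c) = chi k c + n * al k v c := by
  obtain ⟨L, hL, hv⟩ := exists_invertible v
  induction c using MC.ind with | h F => ?_
  obtain ⟨a, b, hab⟩ := CurvesB.TriT208.exists_linear k hdim hc hL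
  have key : ∀ n : ℕ, chi k (v ^ n • mc F) = a * n + b := by
    intro n
    rw [Cls.smul_def, Units.val_pow_eq_pow_val, ← hv, ← mc_tensorPow, mul_comm, ← mc_tensor, chi_mc]
    exact hab n
  have h0 := key 0
  have h1 := key 1
  rw [pow_zero, one_smul] at h0
  rw [pow_one] at h1
  rw [key, al, h1, h0]
  ring

theorem al_smul (v : (MC X)ˣ) {c : MC X} (hc : Co c) : al k v (v • c) = al k v c := by
  have h1 := chi_pow_smul k hdim v hc 1
  have h2 := chi_pow_smul k hdim v hc 2
  rw [pow_one] at h1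
  rw [pow_two, mul_smul] at h2
  rw [al, h2, h1]
  push_cast
  ring

theorem al_zpow_smul (v : (MC X)ˣ) {c : MC X} (hc : Co c) (n : ℤ) : al k v (v ^ n • c) = al k v c := by
  induction n using Int.induction_on with
  | zero => rw [zpow_zero, one_smul]
  | succ n ih =>
    rw [add_comm, zpow_add, zpow_one, mul_smul, al_smul k hdim v (hc.smul _), ih]
  | pred n ih =>
    rw [← ih]
    have : v ^ (-(n : ℤ)) • c = v • v ^ (-(n : ℤ) - 1) • c := by
      rw [smul_smul, ← zpow_one_add]
      congr 2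
      ring
    rw [this, al_smul k hdim v (hc.smul _)]

theorem al_pow_smul (v : (MC X)ˣ) {c : MC X} (hc : Co c) (n : ℕ) : al k v (v ^ n • c) = al k v c := by
  have := al_zpow_smul k hdim v hc n
  rwa [zpow_natCast] at this

theorem chi_zpow_smul (v : (MC X)ˣ) {c : MC X} (hc : Co c) (n : ℤ) :
    chi k (v ^ n • c) = chi k c + n * al k v c := by
  obtain ⟨m, rfl | rfl⟩ := Int.eq_nat_or_neg n
  · rw [zpow_natCast]
    exact chi_pow_smul k hdim v hc m
  · have h := chi_pow_smul k hdim v (hc.smul (v ^ (-(m : ℤ)))) m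
    rw [al_zpow_smul k hdim v hc, ← zpow_natCast, smul_smul, ← zpow_add, add_neg_cancel, zpow_zero, one_smul] at h
    rw [h]
    push_cast
    ring

include k in
theorem V_of_two_le {c : MC X} (hc : Co c) {i : ℕ} (hi : 2 ≤ i) : V i c := by
  refine V_of_dim k hc (d := 1) ?_ (by omega)
  exact (Topology.IsInducing.subtypeVal.topologicalKrullDim_le).trans (by exact_mod_cast hdim)

theorem chi_eq_sub {c : MC X} (hc : Co c) : chi k c = (h k 0 c : ℤ) - h k 1 c := by
  rw [chi_eq_sum k c 1 fun i hi => V_of_two_le k hdim hc hi]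
  simp [Finset.sum_range_succ]
  ring

theorem chi_le_h {c : MC X} (hc : Co c) : chi k c ≤ h k 0 c := by
  rw [chi_eq_sub k hdim hc]
  omega

theorem chi_eq_h {c : MC X} (hc : Co c) (hv : V 1 c) : chi k c = h k 0 c := by
  rw [chi_eq_sub k hdim hc, h_eq_zero k hv]
  simp

omit hdim in
theorem al_ses {a b c : MC X} (hs : Ses a b c) (v : (MC X)ˣ) : al k v b = al k v a + al k v c := by
  have h1 := hs.chi_eq k
  have h2 := (hs.smul v).chi_eq k
  rw [al, al, al]
  omega

omit hdim in
theorem al_nonneg_of (hdim : topologicalKrullDim X ≤ 1) {H : X.Modules} (hH : CohB1.IsAmple H) {c : MC X}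
    (hc : Co c) : 0 ≤ al k (unit hH.1) c := by
  obtain ⟨p₀, hp₀⟩ := serre k hH hc
  by_contra hneg
  have hneg' : al k (unit hH.1) c ≤ -1 := by omega
  set p : ℕ := p₀ + (chi k c).natAbs + 1 with hp
  have h1 := chi_pow_smul k hdim (unit hH.1) hc p
  have h2 : 0 ≤ chi k (unit hH.1 ^ p • c) := by
    rw [chi_eq_h k hdim (hc.smul _) (hp₀ p (by omega) 1 le_rfl)]
    exact Int.natCast_nonneg _
  have h3 : (p : ℤ) * al k (unit hH.1) c ≤ p * (-1) := mul_le_mul_of_nonneg_left hneg' (Int.natCast_nonneg _)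
  have h4 : chi k c ≤ (chi k c).natAbs := Int.le_natAbs
  have h5 : (p : ℤ) = p₀ + (chi k c).natAbs + 1 := by rw [hp]; push_cast; ring
  omega

theorem al_pos_of_dim {H : X.Modules} (hH : CohB1.IsAmple H) {c : MC X} (hc : Co c)
    (hr : topologicalKrullDim (supp c) = 1) : 0 < al k (unit hH.1) c := by
  have h1 := G_pos k hH 1 (by exact_mod_cast hdim) (hc.smul (unit hH.1)) 1
    (by rw [supp_smul]; exact_mod_cast hr)
  have h2 : G k (((unit hH.1)⁻¹ : (MC X)ˣ) : MC X) 1 (unit hH.1 • c) =
      chi k (unit hH.1 • c) - chi k ((((unit hH.1)⁻¹ : (MC X)ˣ) : MC X) * (unit hH.1 • c)) := rfl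
  rw [h2, ← Cls.smul_def, inv_smul_smul] at h1
  exact h1

omit [X.Over (Spec (CommRingCat.of k))] [IsProper (X ↘ Spec (CommRingCat.of k))] k in
theorem dim_supp_cases {c : MC X} (hne : (supp c).Nonempty) :
    topologicalKrullDim (supp c) = 0 ∨ topologicalKrullDim (supp c) = 1 := by
  have h1 : topologicalKrullDim (supp c) ≤ 1 :=
    (Topology.IsInducing.subtypeVal.topologicalKrullDim_le).trans hdim
  have h2 : 0 ≤ topologicalKrullDim (supp c) := by
    have := hne.to_subtype
    have : Nonempty (TopologicalSpace.IrreducibleCloseds (supp c)) := by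
      obtain ⟨x⟩ := this
      exact ⟨⟨closure {x}, isIrreducible_singleton.closure, isClosed_closure⟩⟩
    exact Order.krullDim_nonneg
  generalize topologicalKrullDim (supp c) = d at h1 h2
  induction d using WithBot.recBotCoe with
  | bot => exact absurd h2 (by simp)
  | coe d =>
    have h3 : d ≤ 1 := by exact_mod_cast h1
    rcases lt_or_eq_of_le h3 with h4 | h4
    · left
      have h5 : d = 0 := Order.lt_one_iff.1 h4
      rw [h5]; rfl
    · right
      rw [h4]; rfl

end Over

/-! ### Subobjects on classes -/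

section Sub

variable {X : Scheme.{u}}

/-- `a` is the class of a coherent submodule of a coherent module of class `c`. -/
def Sub (a c : MC X) : Prop := ∃ q, Ses a c q

theorem Sub.smul {a c : MC X} (h : Sub a c) (v : (MC X)ˣ) : Sub (v • a) (v • c) := by
  obtain ⟨q, hq⟩ := h
  exact ⟨v • q, hq.smul v⟩

theorem Sub.of_smul {a c : MC X} {v : (MC X)ˣ} (h : Sub a (v • c)) : Sub (v⁻¹ • a) c := by
  have := h.smul v⁻¹
  rwa [inv_smul_smul] at this

theorem Sub.co₁ {a c : MC X} (h : Sub a c) : Co a := by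
  obtain ⟨q, hq⟩ := h
  exact hq.co₁

theorem Sub.co₂ {a c : MC X} (h : Sub a c) : Co c := by
  obtain ⟨q, hq⟩ := h
  exact hq.co₂

theorem Sub.trans [IsLocallyNoetherian X] {a b c : MC X} (h : Sub a b) (h' : Sub b c) : Sub a c := by
  obtain ⟨q, S, hS, h1, h2, h3, rfl, hb, -⟩ := h
  obtain ⟨q', S', hS', h1', h2', h3', hb', rfl, -⟩ := h'
  obtain ⟨e⟩ := (mc_eq_iff S.X₂ S'.X₁).1 (hb.trans hb'.symm)
  have m1 : Mono S.f := hS.mono_f
  have m2 : Mono S'.f := hS'.mono_f
  have m3 : Mono (e.hom ≫ S'.f) := mono_comp _ _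
  have m4 : Mono (S.f ≫ e.hom ≫ S'.f) := mono_comp _ _
  exact ⟨_, Ses.of_mono (S.f ≫ e.hom ≫ S'.f) h1 h2'⟩

theorem Sub.of_mono [IsLocallyNoetherian X] {F G : X.Modules} (f : F ⟶ G) [Mono f] (hF : Coh.IsCoh F)
    (hG : Coh.IsCoh G) : Sub (mc F) (mc G) := ⟨_, Ses.of_mono f hF hG⟩

theorem Sub.exists_mono {a : MC X} {G : X.Modules} (h : Sub a (mc G)) :
    ∃ (F : X.Modules) (i : F ⟶ G), Mono i ∧ Coh.IsCoh F ∧ Coh.IsCoh G ∧ mc F = a := by
  obtain ⟨q, S, hS, h1, h2, h3, rfl, hb, -⟩ := h
  obtain ⟨e⟩ := (mc_eq_iff S.X₂ G).1 hb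
  have m1 : Mono S.f := hS.mono_f
  exact ⟨S.X₁, S.f ≫ e.hom, mono_comp _ _, h1, Sga67.CohBasic.isCoh_of_iso e h2, rfl⟩

theorem Sub.refl [IsLocallyNoetherian X] {c : MC X} (hc : Co c) : Sub c c := by
  induction c using MC.ind with | h F => ?_
  exact Sub.of_mono (𝟙 F) hc hc

variable (k : Type u) [Field k] [X.Over (Spec (CommRingCat.of k))] (v : (MC X)ˣ)

/-- Nonzero coherent submodules have positive multiplicity. -/
def PosSub (c : MC X) : Prop := ∀ a, Sub a c → (supp a).Nonempty → 0 < al k v a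

/-- Coherent submodules have slope at most `C`. -/
def SlopeLE (C : ℚ) (c : MC X) : Prop := ∀ a, Sub a c → (chi k a : ℚ) ≤ C * al k v a

variable {k v}

theorem PosSub.sub [IsLocallyNoetherian X] {a c : MC X} (hc : PosSub k v c) (h : Sub a c) : PosSub k v a :=
  fun b hb hne => hc b (hb.trans h) hne

theorem SlopeLE.sub [IsLocallyNoetherian X] {C : ℚ} {a c : MC X} (hc : SlopeLE k v C c) (h : Sub a c) :
    SlopeLE k v C a := fun b hb => hc b (hb.trans h)

end Sub

end K987.DecShCurve
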