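import Groth.Agent.DecSh.K987.Num
import Groth.Agent.DecSh.K987.Curve
import Groth.Prelude.Def_DecSh2
import Groth.Prelude.Def_ShStab

/-!
# Tensor fields on a curve: translation to the class monoid, and the inequality of one-step filtrations

* `mult_eq`, `mc_twist`: translation to the class monoid.
* `one_le_mult_piece`, `mult_piece_le`: multiplicities of the pieces of a filtration.
* `semistable_ineq`: `α(E) χ(F) - α(F) χ(E) ≤ δ a (α(E) - α(F))` for `F ⊂ E`.
-/

set_option autoImplicit false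
universe u
open CategoryTheory CategoryTheory.Limits AlgebraicGeometry TopologicalSpace
open Groth.Agent.Fga.PicMon Groth.Agent.Fga Groth.Agent

namespace K987.DecShCurve

open Groth.Agent.Pic13.H11 Cls Amp

section Zero

variable {X : Scheme.{u}}

theorem supp_nonempty_iff (F : X.Modules) : (supp (mc F)).Nonempty ↔ ¬ IsZero F := by
  rw [VarietyA.StalkCrit.isZero_iff_stalks, not_forall]
  rfl

theorem ses_zero [IsLocallyNoetherian X] {F : X.Modules} (hF : Coh.IsCoh F) (h : IsZero F) :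
    Ses (mc F) (mc F) (mc F) := by
  have h1 := Ses.of_mono (𝟙 F) hF hF
  have h2 : IsZero (cokernel (𝟙 F)) := isZero_cokernel_of_epi _
  rwa [mc_eq (h2.iso h)] at h1

variable (k : Type u) [Field k] [X.Over (Spec (CommRingCat.of k))]

theorem chi_zero [IsProper (X ↘ Spec (CommRingCat.of k))] {F : X.Modules} (hF : Coh.IsCoh F) (h : IsZero F) :
    chi k (mc F) = 0 := by
  have := IntAdd.isNoetherian k X
  have := (ses_zero hF h).chi_eq k
  omega

theorem al_zero [IsProper (X ↘ Spec (CommRingCat.of k))] {F : X.Modules} (hF : Coh.IsCoh F) (h : IsZero F)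
    (v : (MC X)ˣ) : al k v (mc F) = 0 := by
  have := IntAdd.isNoetherian k X
  have := al_ses k (ses_zero hF h) v
  omega

end Zero

section Dict

variable {X : Scheme.{u}}

theorem mult_eq (k : Type u) [Field k] [X.Over (Spec (CommRingCat.of k))] {L : X.Modules}
    (hL : PicF.IsInvertible L) (F : X.Modules) : DecSh.mult k X L F = al k (unit hL) (mc F) := by
  rw [DecSh.mult, al, Cls.smul_def, unit_val, mul_comm, ← mc_tensor, chi_mc, chi_mc]

theorem mc_twist {L : X.Modules} (hL : PicF.IsInvertible L) (F : X.Modules) (m : ℕ) :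
    mc (ShStab.twist X L F m) = unit hL ^ m • mc F := by
  rw [ShStab.twist, mc_tensor, mc_tensorPow, Cls.smul_def, Units.val_pow_eq_pow_val, unit_val, mul_comm]

theorem euler_twist (k : Type u) [Field k] [X.Over (Spec (CommRingCat.of k))] {L : X.Modules}
    (hL : PicF.IsInvertible L) (F : X.Modules) (m : ℕ) :
    Curv2.euler k X (ShStab.twist X L F m) = chi k (unit hL ^ m • mc F) := by
  rw [← mc_twist, chi_mc]

theorem finrank_twist (k : Type u) [Field k] [X.Over (Spec (CommRingCat.of k))] {L : X.Modules}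
    (hL : PicF.IsInvertible L) (F : X.Modules) (m i : ℕ) :
    Module.finrank k (Coh.HH X (ShStab.twist X L F m) i) = h k i (unit hL ^ m • mc F) := by
  rw [← mc_twist, h_mc]

theorem mc_mk {E F : X.Modules} (ι : F ⟶ E) [Mono ι] :
    mc ((Subobject.mk ι : Subobject E) : X.Modules) = mc F := mc_eq (Subobject.underlyingIso ι)

theorem mc_coker_mk {E F : X.Modules} (ι : F ⟶ E) [Mono ι] :
    mc (cokernel (Subobject.mk ι : Subobject E).arrow) = mc (cokernel ι) := by
  refine mc_eq (cokernel.mapIso _ _ (Subobject.underlyingIso ι) (Iso.refl E) ?_)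
  rw [Subobject.underlyingIso_hom_comp_eq_mk, Iso.refl_hom, Category.comp_id]

theorem sub_piece [IsLocallyNoetherian X] {E : X.Modules} (hE : Coh.IsCoh E) (P : Subobject E)
    (hP : Coh.IsCoh (P : X.Modules)) : Sub (mc (P : X.Modules)) (mc E) := Sub.of_mono P.arrow hP hE

theorem ses_piece [IsLocallyNoetherian X] {E : X.Modules} (hE : Coh.IsCoh E) (P : Subobject E)
    (hP : Coh.IsCoh (P : X.Modules)) : Ses (mc (P : X.Modules)) (mc E) (mc (cokernel P.arrow)) :=
  Ses.of_mono P.arrow hP hE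

theorem mk_ne_top {E F : X.Modules} (ι : F ⟶ E) [Mono ι] (hι : ¬ IsIso ι) : Subobject.mk ι ≠ ⊤ := by
  intro h
  exact hι ((Subobject.isIso_iff_mk_eq_top ι).2 h)

theorem mk_nonzero {E F : X.Modules} (ι : F ⟶ E) [Mono ι] (hF0 : ¬ IsZero F) :
    ¬ IsZero ((Subobject.mk ι : Subobject E) : X.Modules) := fun h =>
  hF0 (h.of_iso (Subobject.underlyingIso ι).symm)

theorem isCoh_mk {E F : X.Modules} (ι : F ⟶ E) [Mono ι] (hF : Coh.IsCoh F) :
    Coh.IsCoh ((Subobject.mk ι : Subobject E) : X.Modules) :=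
  Sga67.CohBasic.isCoh_of_iso (Subobject.underlyingIso ι).symm hF

/-- The kernel of a coherent quotient, as a subobject. -/
theorem Ses.exists_mono {a q : MC X} {G : X.Modules} (h : Ses a (mc G) q) :
    ∃ (F : X.Modules) (i : F ⟶ G), Mono i ∧ Coh.IsCoh F ∧ mc F = a ∧ mc (cokernel i) = q := by
  obtain ⟨S, hS, h1, h2, h3, rfl, hb, rfl⟩ := h
  obtain ⟨e⟩ := (mc_eq_iff S.X₂ G).1 hb
  have m1 : Mono S.f := hS.mono_f
  have e2 : Epi S.g := hS.epi_g
  refine ⟨S.X₁, S.f ≫ e.hom, mono_comp _ _, h1, rfl, ?_⟩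
  refine mc_eq ?_
  have i1 : cokernel (S.f ≫ e.hom) ≅ cokernel S.f := by
    refine (cokernel.mapIso _ _ (Iso.refl _) e ?_).symm
    rw [Iso.refl_hom, Category.id_comp]
  exact i1 ≪≫ (cokernelIsCokernel S.f).coconePointUniqueUpToIso hS.gIsCokernel

end Dict

section Pieces

variable (k : Type u) [Field k] {X : Scheme.{u}} [X.Over (Spec (CommRingCat.of k))]
  [IsProper (X ↘ Spec (CommRingCat.of k))] {L : X.Modules} (hL : CohB1.IsAmple L)
  {E : X.Modules} (hE : Coh.IsCoh E) (hpos : PosSub k (unit hL.1) (mc E))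

include hE hpos in
theorem one_le_mult (P : Subobject E) (hP : Coh.IsCoh (P : X.Modules)) (h0 : ¬ IsZero (P : X.Modules)) :
    1 ≤ DecSh.mult k X L (P : X.Modules) := by
  have := IntAdd.isNoetherian k X
  rw [mult_eq k hL.1]
  exact hpos _ (sub_piece hE P hP) ((supp_nonempty_iff _).2 h0)

include hE hL in
theorem mult_le (hdim : topologicalKrullDim X ≤ 1) (P : Subobject E) (hP : Coh.IsCoh (P : X.Modules)) :
    DecSh.mult k X L (P : X.Modules) ≤ DecSh.mult k X L E := by
  have := IntAdd.isNoetherian k X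
  rw [mult_eq k hL.1, mult_eq k hL.1]
  have h1 := ses_piece hE P hP
  have h2 := al_ses k h1 (unit hL.1)
  have h3 := al_nonneg_of k hdim hL h1.co₃
  omega

include hL in
theorem mult_nonneg (hE : Coh.IsCoh E) (hdim : topologicalKrullDim X ≤ 1) : 0 ≤ DecSh.mult k X L E := by
  rw [mult_eq k hL.1]
  exact al_nonneg_of k hdim hL hE

end Pieces

section Ineq

variable (k : Type u) [Field k] {X : Scheme.{u}} [X.Over (Spec (CommRingCat.of k))] (L : X.Modules)
  {E : X.Modules}

theorem mult_mk {F : X.Modules} (ι : F ⟶ E) [Mono ι] :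
    DecSh.mult k X L ((Subobject.mk ι : Subobject E) : X.Modules) = DecSh.mult k X L F := by
  have e := Subobject.underlyingIso ι
  rw [DecSh.mult, DecSh.mult, VarietyA.EulerAdd.euler_congr k e,
    VarietyA.EulerAdd.euler_congr k (Ega2.Tens.mapTIso e (Iso.refl L))]

theorem euler_mk {F : X.Modules} (ι : F ⟶ E) [Mono ι] :
    Curv2.euler k X ((Subobject.mk ι : Subobject E) : X.Modules) = Curv2.euler k X F :=
  VarietyA.EulerAdd.euler_congr k (Subobject.underlyingIso ι)

/-- The generic inequality of one-step filtrations. -/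
theorem single_ineq {a : ℕ} (δ : ℚ) (N : DecSh.NV E a) (hδ : 0 ≤ δ) (hE : 0 ≤ DecSh.mult k X L E) (dE : ℚ)
    (d : Subobject E → ℚ)
    (hT : DecSh.IsDeltaSS (fun P => Coh.IsCoh (P : X.Modules)) (DecSh.mult k X L E)
      (fun P => DecSh.mult k X L (P : X.Modules)) dE d N δ)
    (F : X.Modules) (ι : F ⟶ E) [Mono ι] (hF : Coh.IsCoh F) (hF0 : ¬ IsZero F) (hι : ¬ IsIso ι) :
    (DecSh.mult k X L E : ℚ) * d (Subobject.mk ι) - (DecSh.mult k X L F : ℚ) * dE
      ≤ δ * (a : ℚ) * ((DecSh.mult k X L E : ℚ) - (DecSh.mult k X L F : ℚ)) := by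
  have h1 := hT (DecSh.WFilt.single (Subobject.mk ι) (mk_ne_top ι hι) (mk_nonzero ι hF0))
    (fun _ => isCoh_mk ι hF)
  have h2 := DecShNum.le_mu (DecSh.WFilt.single (Subobject.mk ι) (mk_ne_top ι hι) (mk_nonzero ι hF0))
    (DecSh.mult k X L E) (fun P => DecSh.mult k X L (P : X.Modules)) hE N
  have h3 : ∀ f : Fin (DecSh.WFilt.single (Subobject.mk ι) (mk_ne_top ι hι) (mk_nonzero ι hF0)).t → ℚ,
      ∑ i, f i = f ⟨0, Nat.one_pos⟩ := by
    intro f
    exact Fin.sum_univ_one f
  rw [DecSh.WFilt.msum, h3] at h1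
  rw [h3] at h2
  change (1 : ℚ) * ((DecSh.mult k X L E : ℚ) * d (Subobject.mk ι) -
    (DecSh.mult k X L ((Subobject.mk ι : Subobject E) : X.Modules) : ℚ) * dE) + _ ≤ 0 at h1
  change -((1 : ℚ) * ((a : ℚ) * ((DecSh.mult k X L E : ℚ) -
    (DecSh.mult k X L ((Subobject.mk ι : Subobject E) : X.Modules) : ℚ)))) ≤ _ at h2
  rw [mult_mk] at h1 h2
  have h4 := mul_le_mul_of_nonneg_left h2 hδ
  linarith

theorem semistable_ineq {D : X.Modules} {a b : ℕ} (T : DecSh.TF E a b D) (δ : ℚ) (hδ : 0 ≤ δ) (hE : 0 ≤ DecSh.mult k X L E) (hT : T.IsSemistable k L δ)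
    (F : X.Modules) (ι : F ⟶ E) [Mono ι] (hF : Coh.IsCoh F) (hF0 : ¬ IsZero F) (hι : ¬ IsIso ι) :
    (DecSh.mult k X L E : ℚ) * (Curv2.euler k X F : ℚ) - (DecSh.mult k X L F : ℚ) * (Curv2.euler k X E : ℚ)
      ≤ δ * (a : ℚ) * ((DecSh.mult k X L E : ℚ) - (DecSh.mult k X L F : ℚ)) := by
  have := single_ineq k L δ T.nv hδ hE _ _ hT F ι hF hF0 hι
  rwa [euler_mk] at this

end Ineq

section Slope

variable {k : Type u} [Field k] {X : Scheme.{u}} [X.Over (Spec (CommRingCat.of k))]
  [IsProper (X ↘ Spec (CommRingCat.of k))] {L : X.Modules} (hL : CohB1.IsAmple L)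
  {E : X.Modules}

/-- From an inequality for nonzero proper coherent submodules to a slope bound. -/
theorem slopeLE_of (hE : Coh.IsCoh E) (hpos : PosSub k (unit hL.1) (mc E)) (α e : ℤ)
    (hα : al k (unit hL.1) (mc E) = α) (he : chi k (mc E) = e) (R : ℚ) (hR : 0 ≤ R)
    (H : ∀ (F : X.Modules) (ι : F ⟶ E) [Mono ι], Coh.IsCoh F → ¬ IsZero F → ¬ IsIso ι →
      (α : ℚ) * (Curv2.euler k X F : ℚ) - (DecSh.mult k X L F : ℚ) * e ≤ R * α) :
    SlopeLE k (unit hL.1) ((e : ℚ) / α + R) (mc E) := by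
  have := IntAdd.isNoetherian k X
  intro c hc
  obtain ⟨F, ι, hι, hF, -, rfl⟩ := hc.exists_mono
  by_cases hF0 : IsZero F
  · rw [chi_zero k hF hF0, al_zero k hF hF0]
    simp
  · have hE0 : ¬ IsZero E := fun h => hF0 (h.of_mono ι)
    have hα1 := hpos _ (Sub.refl hE) ((supp_nonempty_iff E).2 hE0)
    rw [hα] at hα1
    have hα1' : (1 : ℚ) ≤ α := by exact_mod_cast hα1
    have hne : (supp (mc F)).Nonempty := (supp_nonempty_iff F).2 hF0
    have hx := hpos _ hc hne
    have hx' : (1 : ℚ) ≤ al k (unit hL.1) (mc F) := by exact_mod_cast hx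
    by_cases hiso : IsIso ι
    · have e1 : mc F = mc E := mc_eq (asIso ι)
      rw [e1, hα, he]
      have : ((e : ℚ) / α + R) * α = e + R * α := by field_simp
      rw [this]
      nlinarith
    · have e1 := H F ι hF hF0 hiso
      rw [mult_eq k hL.1] at e1
      rw [chi_mc]
      set x : ℚ := (al k (unit hL.1) (mc F) : ℚ)
      have e2 : (Curv2.euler k X F : ℚ) ≤ x * e / α + R := by
        rw [← sub_nonneg]
        have : x * e / α + R - Curv2.euler k X F = (x * e + R * α - α * Curv2.euler k X F) / α := by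
          field_simp
        rw [this]
        apply div_nonneg <;> linarith
      have e3 : x * e / α + R ≤ ((e : ℚ) / α + R) * x := by
        have : ((e : ℚ) / α + R) * x = x * e / α + R * x := by ring
        rw [this]
        nlinarith
      linarith

/-- δ-semistable tensor fields on torsion free modules have bounded slopes. -/
theorem slopeLE_of_semistable (hdim : topologicalKrullDim X ≤ 1) (hE : Coh.IsCoh E)
    (hpos : PosSub k (unit hL.1) (mc E)) (α e : ℤ) (hα : DecSh.mult k X L E = α)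
    (he : Curv2.euler k X E = e) {D : X.Modules} {a b : ℕ} (T : DecSh.TF E a b D) (δ : ℚ) (hδ : 0 < δ)
    (hT : T.IsSemistable k L δ) : SlopeLE k (unit hL.1) ((e : ℚ) / α + δ * a) (mc E) := by
  have hE0 := mult_nonneg k hL hE hdim
  have ha : (0 : ℚ) ≤ (a : ℚ) := Nat.cast_nonneg a
  refine slopeLE_of hL hE hpos α e (by rw [← mult_eq, hα]) (by rw [chi_mc, he]) _
    (mul_nonneg hδ.le ha) fun F ι hι hF hF0 hiso => ?_
  have h1 := semistable_ineq k L T δ hδ.le hE0 hT F ι hF hF0 hiso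
  have h2 : 0 ≤ DecSh.mult k X L F := mult_nonneg k hL hF hdim
  have h2' : (0 : ℚ) ≤ DecSh.mult k X L F := by exact_mod_cast h2
  rw [hα, he] at h1
  have h3 := mul_nonneg (mul_nonneg hδ.le ha) h2'
  linarith

end Slope

end K987.DecShCurve
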