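import Groth.Agent.DecSh.K987.Curve
import Groth.Agent.Pic13.H951.PresentX
import Groth.Agent.Pic13.H11.Transf
import Groth.Agent.VarietyB.GGStalk
import Groth.Agent.Ega2.GlobGenCrit
import Groth.Agent.S1647

/-!
# Global generation from vanishing of `H¹` on a proper curve

`exists_gg`: there is `r` such that `H¹(F(m)) = 0` implies that `F(m + r)` is globally generated.
-/

set_option autoImplicit false
universe u
open CategoryTheory CategoryTheory.Limits AlgebraicGeometry TopologicalSpace
open Groth.Agent.Fga.PicMon Groth.Agent.Fga Groth.Agent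

namespace K987.DecShCurve

open Groth.Agent.Pic13.H11 Cls Amp NumU Emb

/-- Castelnuovo-Mumford regularity on closed subschemes of projective space. -/
theorem gg_of_isMRegular (k : Type u) [Field k] {X : Scheme.{u}} {n : ℕ} (i : X ⟶ CohB1.ProjSpace n k)
    [IsClosedImmersion i] {F : X.Modules} (hF : Coh.IsCoh F) {m : ℤ} (h : Pic13.IsMRegular k i F m) :
    Curv2.IsGloballyGenerated (Pic13.twistOn k i F m) := by
  have h1 := S1647.result k n _ (Pic13.H951.PresentX.isCoh_push k i hF) m
    (Pic13.H951.PresentX.isMRegular_push k i h)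
  have h2 := Ega2.GlobGenCrit.isGloballyGenerated_of_iso (Pic13.H951.PresentX.pushTwist k i F m).symm h1
  exact Ega2.GlobGenCrit.isGloballyGenerated_of_iso
    (Pic13.H951.PresentX.counitIso k i (Pic13.twistOn k i F m)) (VarietyB.GGStalk.isGloballyGenerated_pullback i _ h2)

theorem mc_twistOn' (k : Type u) [Field k] {X : Scheme.{u}} {n : ℕ} (i : X ⟶ CohB1.ProjSpace n k) (F : X.Modules)
    (d : ℤ) : mc (Pic13.twistOn k i F d) = pullU i (twistU k n 1) ^ d • mc F := by
  rw [Pic13.twistOn, mc_tensor, ← pullU_unit_val i (Sga67.SerreVB.isInvertible_twist n k d), Cls.smul_def,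
    ← map_zpow, ← twistU_eq, mul_comm]
  rfl

variable (k : Type u) [Field k] {X : Scheme.{u}} [X.Over (Spec (CommRingCat.of k))]
  [IsProper (X ↘ Spec (CommRingCat.of k))] (hdim : topologicalKrullDim X ≤ 1) {L : X.Modules}
  (hL : CohB1.IsAmple L)

include hdim k in
theorem exists_gg : ∃ r : ℕ, ∀ (F : X.Modules), Coh.IsCoh F → ∀ m : ℕ, V 1 (unit hL.1 ^ m • mc F) →
    Curv2.IsGloballyGenerated (CohB1.tensorMod F (CohB1.tensorPow L (m + r))) := by
  obtain ⟨n, r, i, hr, hi, his, hpull⟩ := Emb.exists_embedding k X hL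
  refine ⟨r, fun F hF m hv => ?_⟩
  have e1 : mc (CohB1.tensorMod F (CohB1.tensorPow L (m + r))) = unit hL.1 ^ (m + r) • mc F := by
    rw [mc_tensor, mc_tensorPow, Cls.smul_def, Units.val_pow_eq_pow_val, unit_val, mul_comm]
  have hG : Co (mc (CohB1.tensorMod F (CohB1.tensorPow L (m + r)))) := by
    rw [e1]
    exact Co.smul (c := mc F) hF _
  have hreg : Pic13.IsMRegular k i (CohB1.tensorMod F (CohB1.tensorPow L (m + r))) 0 := by
    intro q hq
    rw [← V_mc, mc_twistOn', hpull]
    rcases Nat.lt_or_ge 1 q with h | h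
    · exact V_of_two_le k hdim (hG.smul _) h
    · obtain rfl : q = 1 := le_antisymm h hq
      have e2 : (0 : ℤ) - ((1 : ℕ) : ℤ) = -1 := by norm_num
      rw [e2, zpow_neg_one, e1, pow_add, mul_comm, mul_smul, inv_smul_smul]
      exact hv
  have h1 := gg_of_isMRegular k i hG hreg
  have e3 : mc (Pic13.twistOn k i (CohB1.tensorMod F (CohB1.tensorPow L (m + r))) 0) =
      mc (CohB1.tensorMod F (CohB1.tensorPow L (m + r))) := by
    rw [mc_twistOn', zpow_zero, one_smul]
  obtain ⟨ε⟩ := (mc_eq_iff _ _).1 e3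
  exact Ega2.GlobGenCrit.isGloballyGenerated_of_iso ε h1

end K987.DecShCurve
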