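import Groth.Prelude.Def_DecSh
import Mathlib.Data.Finset.Sort
import Mathlib.Tactic

/-!
# Numerical estimates for `μ` of a weighted filtration

Generic part: a category `C`, `αE : ℤ`, `α : Subobject E → ℤ` with `1 ≤ α (F_i) ≤ αE` on the pieces.
* `gam_le`, `le_gam`, `abs_mu_le`: `|μ| ≤ (Σ m_i) a (αE - 1)`.
* `mu_le_sub`: dropping steps of total weight `w` raises `μ` by at most `w a (αE - 1)`.
* `exists_restrict`: the sub-filtration of a nonempty set of indices.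
-/

set_option autoImplicit false
universe v u
open CategoryTheory CategoryTheory.Limits

namespace K987.DecShNum

open DecSh DecSh.WFilt

variable {C : Type u} [Category.{v} C] {E : C} (𝓕 : WFilt E) (αE : ℤ) (α : Subobject E → ℤ) {a : ℕ}

theorem nu_le (I : Fin a → Fin (𝓕.t + 1)) (i : Fin 𝓕.t) : 𝓕.nu αE α I i ≤ a := by
  refine (Finset.card_filter_le _ _).trans ?_
  simp

theorem mulX_le (h : ∀ i, α (𝓕.piece i) ≤ αE) (j : Fin (𝓕.t + 1)) : 𝓕.mulX αE α j ≤ αE := by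
  induction j using Fin.lastCases with
  | last => rw [mulX_last]
  | cast i => rw [mulX_castSucc]; exact h i

/-- The `i`-th term of the weight of a multi-index, upper bound. -/
theorem term_le (h1 : ∀ i, 1 ≤ α (𝓕.piece i)) (h2 : ∀ i, α (𝓕.piece i) ≤ αE)
    (I : Fin a → Fin (𝓕.t + 1)) (i : Fin 𝓕.t) :
    (a : ℚ) * (α (𝓕.piece i) : ℚ) - (𝓕.nu αE α I i : ℚ) * (αE : ℚ) ≤ (a : ℚ) * ((αE : ℚ) - 1) := by
  have hE : (1 : ℤ) ≤ αE := (h1 i).trans (h2 i)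
  have hE' : (1 : ℚ) ≤ (αE : ℚ) := by exact_mod_cast hE
  have ha : (0 : ℚ) ≤ (a : ℚ) := Nat.cast_nonneg a
  rcases lt_or_eq_of_le (h2 i) with hlt | heq
  · have h3 : (α (𝓕.piece i) : ℚ) ≤ (αE : ℚ) - 1 := by
      have : α (𝓕.piece i) ≤ αE - 1 := by omega
      exact_mod_cast this
    have h4 : (0 : ℚ) ≤ (𝓕.nu αE α I i : ℚ) * (αE : ℚ) := by positivity
    have h5 : (a : ℚ) * (α (𝓕.piece i) : ℚ) ≤ (a : ℚ) * ((αE : ℚ) - 1) :=
      mul_le_mul_of_nonneg_left h3 ha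
    linarith
  · have hν : 𝓕.nu αE α I i = a := by
      have : (Finset.univ.filter fun j => 𝓕.mulX αE α (I j) ≤ α (𝓕.piece i)) = Finset.univ := by
        refine Finset.filter_true_of_mem fun j _ => ?_
        rw [heq]
        exact mulX_le 𝓕 αE α h2 (I j)
      rw [nu, this]
      simp
    rw [hν, heq]
    have : (0 : ℚ) ≤ (a : ℚ) * ((αE : ℚ) - 1) := mul_nonneg ha (by linarith)
    linarith

/-- The `i`-th term of the weight of a multi-index, lower bound. -/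
theorem le_term (hE : 0 ≤ αE) (I : Fin a → Fin (𝓕.t + 1)) (i : Fin 𝓕.t) :
    -((a : ℚ) * ((αE : ℚ) - (α (𝓕.piece i) : ℚ))) ≤
      (a : ℚ) * (α (𝓕.piece i) : ℚ) - (𝓕.nu αE α I i : ℚ) * (αE : ℚ) := by
  have h1 : (𝓕.nu αE α I i : ℚ) ≤ (a : ℚ) := by exact_mod_cast nu_le 𝓕 αE α I i
  have h2 : (0 : ℚ) ≤ (αE : ℚ) := by exact_mod_cast hE
  have := mul_le_mul_of_nonneg_right h1 h2
  linarith

/-- Lower bound of `μ` by multiplicities. -/
theorem le_mu (hE : 0 ≤ αE) (N : NV E a) :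
    -(∑ i, 𝓕.wt i * ((a : ℚ) * ((αE : ℚ) - (α (𝓕.piece i) : ℚ)))) ≤ 𝓕.mu αE α N := by
  obtain ⟨I, -, hI⟩ := 𝓕.exists_gam_eq_mu αE α N
  rw [← hI, gam, ← Finset.sum_neg_distrib]
  refine Finset.sum_le_sum fun i _ => ?_
  rw [← mul_neg]
  exact mul_le_mul_of_nonneg_left (le_term 𝓕 αE α hE I i) (𝓕.wt_pos i).le

theorem neg_le_mu (h1 : ∀ i, 1 ≤ α (𝓕.piece i)) (hE : 0 ≤ αE) (N : NV E a) :
    -((∑ i, 𝓕.wt i) * (a : ℚ) * ((αE : ℚ) - 1)) ≤ 𝓕.mu αE α N := by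
  refine le_trans ?_ (le_mu 𝓕 αE α hE N)
  rw [neg_le_neg_iff, Finset.sum_mul, Finset.sum_mul]
  refine Finset.sum_le_sum fun i _ => ?_
  rw [mul_assoc]
  refine mul_le_mul_of_nonneg_left ?_ (𝓕.wt_pos i).le
  refine mul_le_mul_of_nonneg_left ?_ (Nat.cast_nonneg a)
  have : (1 : ℚ) ≤ (α (𝓕.piece i) : ℚ) := by exact_mod_cast h1 i
  linarith

theorem mu_le (h1 : ∀ i, 1 ≤ α (𝓕.piece i)) (h2 : ∀ i, α (𝓕.piece i) ≤ αE) (N : NV E a) :
    𝓕.mu αE α N ≤ (∑ i, 𝓕.wt i) * (a : ℚ) * ((αE : ℚ) - 1) := by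
  refine (𝓕.mu_le_gam αE α N (𝓕.adm_last N)).trans ?_
  rw [gam, Finset.sum_mul, Finset.sum_mul]
  refine Finset.sum_le_sum fun i _ => ?_
  rw [mul_assoc]
  exact mul_le_mul_of_nonneg_left (term_le 𝓕 αE α h1 h2 _ i) (𝓕.wt_pos i).le

theorem abs_mu_le (h1 : ∀ i, 1 ≤ α (𝓕.piece i)) (h2 : ∀ i, α (𝓕.piece i) ≤ αE) (N : NV E a) :
    |𝓕.mu αE α N| ≤ (∑ i, 𝓕.wt i) * (a : ℚ) * ((αE : ℚ) - 1) :=
  abs_le.2 ⟨neg_le_mu 𝓕 αE α h1 (by have := h1 ⟨0, 𝓕.t_pos⟩; have := h2 ⟨0, 𝓕.t_pos⟩; omega) N,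
    mu_le 𝓕 αE α h1 h2 N⟩

section Sub

variable (𝓕₁ : WFilt E) (e : Fin 𝓕₁.t → Fin 𝓕.t) (hp : ∀ j, 𝓕₁.piece j = 𝓕.piece (e j))
  (hw : ∀ j, 𝓕₁.wt j = 𝓕.wt (e j))

include hp in
theorem injective_e : Function.Injective e := by
  intro i j hij
  apply 𝓕₁.piece_strictMono.injective
  rw [hp, hp, hij]

/-- The extension of the index map to the implicit last piece. -/
def eX : Fin (𝓕₁.t + 1) → Fin (𝓕.t + 1) := Fin.lastCases (Fin.last 𝓕.t) fun j => (e j).castSucc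

include hp in
theorem pieceX_eX (j : Fin (𝓕₁.t + 1)) : 𝓕.pieceX (eX 𝓕 𝓕₁ e j) = 𝓕₁.pieceX j := by
  induction j using Fin.lastCases with
  | last => simp [eX]
  | cast j => simp [eX, hp]

include hp in
theorem mulX_eX (j : Fin (𝓕₁.t + 1)) : 𝓕.mulX αE α (eX 𝓕 𝓕₁ e j) = 𝓕₁.mulX αE α j := by
  induction j using Fin.lastCases with
  | last => simp [eX]
  | cast j => simp [eX, hp]

include hp hw in
/-- Dropping steps of a weighted filtration. -/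
theorem mu_le_sub (h1 : ∀ i, 1 ≤ α (𝓕.piece i)) (h2 : ∀ i, α (𝓕.piece i) ≤ αE) (N : NV E a) :
    𝓕.mu αE α N ≤ 𝓕₁.mu αE α N + ((∑ i, 𝓕.wt i) - ∑ j, 𝓕₁.wt j) * (a : ℚ) * ((αE : ℚ) - 1) := by
  classical
  obtain ⟨I₁, hI₁, hmu⟩ := 𝓕₁.exists_gam_eq_mu αE α N
  set I : Fin a → Fin (𝓕.t + 1) := fun j => eX 𝓕 𝓕₁ e (I₁ j) with hI
  have hadm : 𝓕.Adm N I := by
    have : (fun j => 𝓕.pieceX (I j)) = fun j => 𝓕₁.pieceX (I₁ j) :=
      funext fun j => pieceX_eX 𝓕 𝓕₁ e hp (I₁ j)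
    rw [Adm, this]
    exact hI₁
  refine (𝓕.mu_le_gam αE α N hadm).trans ?_
  rw [← hmu, gam, gam]
  have hinj := injective_e 𝓕 𝓕₁ e hp
  have hν : ∀ j, 𝓕.nu αE α I (e j) = 𝓕₁.nu αE α I₁ j := by
    intro j
    rw [nu, nu]
    congr 1
    ext x
    simp only [Finset.mem_filter, Finset.mem_univ, true_and, hI]
    rw [mulX_eX 𝓕 αE α 𝓕₁ e hp, hp]
  have hsplit : ∀ f : Fin 𝓕.t → ℚ, ∑ i, f i =
      (∑ j, f (e j)) + ∑ i ∈ Finset.univ.filter (fun i => i ∉ Set.range e), f i := by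
    intro f
    have e1 : (∑ j, f (e j)) = ∑ i ∈ Finset.univ.filter (fun i => i ∈ Set.range e), f i := by
      have : (Finset.univ.filter (fun i => i ∈ Set.range e)) = Finset.univ.image e := by
        ext i; simp
      rw [this, Finset.sum_image fun x _ y _ h => hinj h]
    rw [e1, Finset.sum_filter_add_sum_filter_not]
  rw [hsplit, hsplit 𝓕.wt]
  have e2 : (∑ j, 𝓕.wt (e j)) = ∑ j, 𝓕₁.wt j := Finset.sum_congr rfl fun j _ => (hw j).symm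
  rw [e2, add_sub_cancel_left]
  refine add_le_add (le_of_eq (Finset.sum_congr rfl fun j _ => ?_)) ?_
  · rw [hν, hw, hp]
  · rw [Finset.sum_mul, Finset.sum_mul]
    refine Finset.sum_le_sum fun i _ => ?_
    rw [mul_assoc]
    exact mul_le_mul_of_nonneg_left (term_le 𝓕 αE α h1 h2 _ i) (𝓕.wt_pos i).le

end Sub

/-- The sub-filtration of a nonempty set of indices. -/
theorem exists_restrict (J : Finset (Fin 𝓕.t)) (hJ : J.Nonempty) :
    ∃ (𝓕₁ : WFilt E) (e : Fin 𝓕₁.t → Fin 𝓕.t), StrictMono e ∧ Finset.univ.image e = J ∧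
      (∀ j, 𝓕₁.piece j = 𝓕.piece (e j)) ∧ ∀ j, 𝓕₁.wt j = 𝓕.wt (e j) := by
  classical
  let e : Fin J.card ↪o Fin 𝓕.t := J.orderEmbOfFin rfl
  refine ⟨{ t := J.card
            t_pos := Finset.card_pos.2 hJ
            piece := fun j => 𝓕.piece (e j)
            wt := fun j => 𝓕.wt (e j)
            piece_strictMono := 𝓕.piece_strictMono.comp e.strictMono
            piece_ne_top := fun j => 𝓕.piece_ne_top _
            piece_nonzero := fun j => 𝓕.piece_nonzero _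
            wt_pos := fun j => 𝓕.wt_pos _ }, e, e.strictMono, ?_, fun j => rfl, fun j => rfl⟩
  exact J.image_orderEmbOfFin_univ rfl

/-- The abstract dropping argument.  Let `x i` be the linear terms of the modified inequality and `y i` those of the
semistability inequality, equal for `i ∈ J` (the good indices) and `x i ≤ -K` for the others, where
`δ a (αE - 1) ≤ K`.  If the semistability inequality holds for every sub-filtration, the modified one holds. -/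
theorem drop (N : NV E a) (h1 : ∀ i, 1 ≤ α (𝓕.piece i)) (h2 : ∀ i, α (𝓕.piece i) ≤ αE) (δ : ℚ) (hδ : 0 ≤ δ)
    (J : Finset (Fin 𝓕.t)) (x : Fin 𝓕.t → ℚ) (K : ℚ)
    (hgood : ∀ (𝓕₁ : WFilt E) (e : Fin 𝓕₁.t → Fin 𝓕.t), (∀ j, 𝓕₁.piece j = 𝓕.piece (e j)) →
      (∀ j, 𝓕₁.wt j = 𝓕.wt (e j)) → (∀ j, e j ∈ J) → (∑ j, 𝓕₁.wt j * x (e j)) + δ * 𝓕₁.mu αE α N ≤ 0)
    (hbad : ∀ i, i ∉ J → x i ≤ -(δ * ((a : ℚ) * ((αE : ℚ) - 1))) - K) :
    (∑ i, 𝓕.wt i * x i) + δ * 𝓕.mu αE α N ≤ -(K * ∑ i ∈ Finset.univ.filter (fun i => i ∉ J), 𝓕.wt i) := by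
  classical
  have hbad' : ∑ i ∈ Finset.univ.filter (fun i => i ∉ J), 𝓕.wt i * x i ≤
      (-(δ * ((a : ℚ) * ((αE : ℚ) - 1))) - K) * ∑ i ∈ Finset.univ.filter (fun i => i ∉ J), 𝓕.wt i := by
    rw [Finset.mul_sum]
    refine Finset.sum_le_sum fun i hi => ?_
    rw [mul_comm (-(δ * ((a : ℚ) * ((αE : ℚ) - 1))) - K)]
    exact mul_le_mul_of_nonneg_left (hbad i (Finset.mem_filter.1 hi).2) (𝓕.wt_pos i).le
  have hs : ∀ f : Fin 𝓕.t → ℚ, ∑ i, f i = (∑ i ∈ J, f i) + ∑ i ∈ Finset.univ.filter (fun i => i ∉ J), f i := by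
    intro f
    rw [← Finset.sum_filter_add_sum_filter_not Finset.univ (fun i => i ∈ J)]
    congr 1
    refine Finset.sum_congr ?_ fun _ _ => rfl
    ext i; simp
  rcases J.eq_empty_or_nonempty with hJ | hJ
  · subst hJ
    have hmu := mul_le_mul_of_nonneg_left (mu_le 𝓕 αE α h1 h2 N) hδ
    rw [hs (fun i => 𝓕.wt i * x i)]
    rw [hs 𝓕.wt] at hmu
    simp only [Finset.sum_empty, zero_add] at hmu ⊢
    set W := ∑ i ∈ Finset.univ.filter (fun i => i ∉ (∅ : Finset (Fin 𝓕.t))), 𝓕.wt i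
    nlinarith [hbad', hmu]
  · obtain ⟨𝓕₁, e, he, him, hp, hw⟩ := exists_restrict 𝓕 J hJ
    have hmem : ∀ j, e j ∈ J := fun j => by
      rw [← him]; exact Finset.mem_image_of_mem _ (Finset.mem_univ _)
    have hg := hgood 𝓕₁ e hp hw hmem
    have hsum : ∀ f : Fin 𝓕.t → ℚ, ∑ i ∈ J, f i = ∑ j, f (e j) := by
      intro f
      rw [← him, Finset.sum_image fun x _ y _ h => he.injective h]
    have hmu := mul_le_mul_of_nonneg_left (mu_le_sub 𝓕 αE α 𝓕₁ e hp hw h1 h2 N) hδ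
    have hw1 : ∑ j, 𝓕₁.wt j = ∑ i ∈ J, 𝓕.wt i := by
      rw [hsum]; exact Finset.sum_congr rfl fun j _ => hw j
    rw [hw1, hs 𝓕.wt, add_sub_cancel_left] at hmu
    have hx1 : ∑ j, 𝓕₁.wt j * x (e j) = ∑ i ∈ J, 𝓕.wt i * x i := by
      rw [hsum]; exact Finset.sum_congr rfl fun j _ => by rw [hw j]
    rw [hx1] at hg
    rw [hs (fun i => 𝓕.wt i * x i)]
    set W := ∑ i ∈ Finset.univ.filter (fun i => i ∉ J), 𝓕.wt i
    nlinarith [hbad', hmu, hg]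

end K987.DecShNum
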