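import Groth.Agent.DecSh.K987.Dict
import Groth.Agent.VarietyA.DegRank
import Groth.Agent.PerfA.CohSerre
import Groth.Agent.S1558

/-!
# The multiplicity of a locally free module

`al_locFree`: on a proper curve, `α(E) = r α(O)` for `E` locally free of rank `r`.
-/

set_option autoImplicit false
universe u
open CategoryTheory CategoryTheory.Limits AlgebraicGeometry TopologicalSpace
open Groth.Agent.Fga.PicMon Groth.Agent.Fga Groth.Agent

namespace K987.DecShCurve

open Groth.Agent.Pic13.H11 Cls Amp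

variable (k : Type u) [Field k] {X : Scheme.{u}} [X.Over (Spec (CommRingCat.of k))]
  [IsProper (X ↘ Spec (CommRingCat.of k))]

/-- `χ(E ⊗ -)` is additive for `E` locally free. -/
theorem chi_mul_ses {E : X.Modules} {r : ℕ} (hE : FlatMod.IsFinLocFreeOfRank r E) {a b c : MC X}
    (hs : Ses a b c) : chi k (mc E * b) = chi k (mc E * a) + chi k (mc E * c) := by
  obtain ⟨S, hS, h1, h2, h3, rfl, rfl, rfl⟩ := hs
  rw [← mc_tensor, ← mc_tensor, ← mc_tensor, chi_mc, chi_mc, chi_mc]
  exact VarietyA.DegRank.euler_tensor_add k r E hE S hS h1 h2 h3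

/-- `χ(E ⊗ T) = r χ(T)` for `dim Supp T ≤ 0`. -/
theorem chi_mul_of_dim {E : X.Modules} {r : ℕ} (hE : FlatMod.IsFinLocFreeOfRank r E) {t : MC X} (ht : Co t)
    (hd : topologicalKrullDim (supp t) ≤ 0) : chi k (mc E * t) = r * chi k t := by
  induction t using MC.ind with | h F => ?_
  rw [mul_comm, ← mc_tensor, chi_mc, chi_mc]
  exact S1558.result k X F ht hd r E hE

theorem isCoh_of_rank {E : X.Modules} {r : ℕ} (hE : FlatMod.IsFinLocFreeOfRank r E) : Coh.IsCoh E :=
  PerfA.CohSerre.isCoh_of_isFinLocFree fun x => by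
    obtain ⟨U, hx, h⟩ := hE x
    exact ⟨U, r, hx, h⟩

theorem al_locFree (hdim : topologicalKrullDim X = 1) {H : X.Modules} (hH : CohB1.IsAmple H)
    {E : X.Modules} {r : ℕ} (hE : FlatMod.IsFinLocFreeOfRank r E) :
    al k (unit hH.1) (mc E) = r * al k (unit hH.1) (mc (Coh.structureModule X)) := by
  have := IntAdd.isNoetherian k X
  have hO : Coh.IsCoh (Coh.structureModule X) := CurvesC.UnitCoh.isCoh_unit X
  have hEc : Coh.IsCoh E := isCoh_of_rank hE
  have hd : topologicalKrullDim (supp (mc (Coh.structureModule X))) = ((0 + 1 : ℕ) : WithBot ℕ∞) := by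
    have h1 : supp (mc (Coh.structureModule X)) = Set.univ := HodgeAsm.support_unit X
    rw [h1]
    have h2 := (Homeomorph.Set.univ X).isHomeomorph.topologicalKrullDim_eq
    rw [h2, hdim]
    rfl
  obtain ⟨m, t, hm, hs, ht⟩ := exists_cut k hH (c := mc (Coh.structureModule X)) hO 0 hd
  have e1 := hs.chi_eq k
  have e2 := chi_mul_ses k hE hs
  have e3 := chi_mul_of_dim k hE hs.co₃ (le_of_eq ht)
  have e4 := chi_pow_smul k hdim.le (unit hH.1) (c := mc (Coh.structureModule X)) hO m
  have e5 := chi_pow_smul k hdim.le (unit hH.1) (c := mc E) hEc m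
  have e6 : mc E * (unit hH.1 ^ m • mc (Coh.structureModule X)) = unit hH.1 ^ m • mc E := by
    rw [Cls.smul_def, Cls.smul_def, mc_one, mul_one, mul_comm]
  have e7 : mc E * mc (Coh.structureModule X) = mc E := by rw [mc_one, mul_one]
  rw [e6, e7, e3] at e2
  have h0 : (0 : ℤ) < m := by exact_mod_cast hm
  have e8 : (m : ℤ) * al k (unit hH.1) (mc E) = m * (r * al k (unit hH.1) (mc (Coh.structureModule X))) := by
    have e9 : chi k t = m * al k (unit hH.1) (mc (Coh.structureModule X)) := by linarith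
    rw [e9] at e2
    linarith
  exact mul_left_cancel₀ h0.ne' e8

end K987.DecShCurve
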