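import Groth.Agent.DecSh.K987.Tor
import Groth.Agent.DecSh.K987.RankMul
import Groth.Agent.Flat2B.SmoothGeom

/-!
# Generalized parabolic tensor fields on a smooth curve: slopes

* `parChi_bounds`: `0 ≤ χ(F) - parχ(F) ≤ r ν`.
* `posSub_of_locFree`: nonzero coherent submodules of a locally free module have positive multiplicity.
* `slopeLE_of_par`: `(κ, δ)`-semistable objects have bounded slopes.
-/

set_option autoImplicit false
universe u
open CategoryTheory CategoryTheory.Limits AlgebraicGeometry TopologicalSpace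
open Groth.Agent.Fga.PicMon Groth.Agent.Fga Groth.Agent

namespace K987.DecShCurve

open Groth.Agent.Pic13.H11 Cls Amp

section Tf

variable {X : Scheme.{u}}

theorem torsionFree_of_locFree {E : X.Modules} (hE : FlatMod.IsFinLocFree E) :
    TorSh.IsTorsionFree E := by
  intro x
  have h1 := (Divis.StalkMod.finite_free_stalk (PerfA.CohSerre.isCoh_of_isFinLocFree hE).1 hE x).2
  exact Module.Free.instIsTorsionFree _ _

end Tf

section Par

variable (k : Type u) [Field k] {Y : Scheme.{u}} [Y.Over (Spec (CommRingCat.of k))]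
  {ν : ℕ} (I : Fin ν → Y.IdealSheafData) {E : Y.Modules}
  (K : ∀ i, Submodule k (ParSh.fibD Y (I i) E)) {r : ℕ}
  (hK : ∀ i, Module.finrank k (ParSh.fibD Y (I i) E ⧸ K i) = r)
  (κ : Fin ν → ℚ) (hκ : ∀ i, 0 < κ i ∧ κ i < 1)

include hK hκ in
theorem parChi_bounds (hr : 1 ≤ r) {F : Y.Modules} (ι : F ⟶ E) :
    0 ≤ (Curv2.euler k Y F : ℚ) - DecSh.parChi k I K κ ι ∧
      (Curv2.euler k Y F : ℚ) - DecSh.parChi k I K κ ι ≤ (r : ℚ) * (ν : ℚ) := by
  rw [DecSh.parChi, sub_sub_cancel]
  constructor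
  · exact Finset.sum_nonneg fun i _ => mul_nonneg (hκ i).1.le (Nat.cast_nonneg _)
  · have h1 : ∀ i, κ i * (Module.finrank k ((LinearMap.range (ParSh.fibDMap k Y (I i) ι)).map (K i).mkQ) : ℚ) ≤
        (r : ℚ) := by
      intro i
      have hfin : Module.Finite k (ParSh.fibD Y (I i) E ⧸ K i) :=
        Module.finite_of_finrank_pos (by rw [hK i]; exact hr)
      have h2 : Module.finrank k ((LinearMap.range (ParSh.fibDMap k Y (I i) ι)).map (K i).mkQ) ≤ r := by
        rw [← hK i]
        exact Submodule.finrank_le _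
      have h3 : (Module.finrank k ((LinearMap.range (ParSh.fibDMap k Y (I i) ι)).map (K i).mkQ) : ℚ) ≤ r := by
        exact_mod_cast h2
      exact (mul_le_of_le_one_left (Nat.cast_nonneg _) (hκ i).2.le).trans h3
    calc _ ≤ ∑ _i : Fin ν, (r : ℚ) := Finset.sum_le_sum fun i _ => h1 i
      _ = (r : ℚ) * (ν : ℚ) := by simp [mul_comm]

variable [IsProper (Y ↘ Spec (CommRingCat.of k))] {L : Y.Modules} (hL : CohB1.IsAmple L)

theorem posSub_of_locFree [Smooth (Y ↘ Spec (CommRingCat.of k))] (hdim : topologicalKrullDim Y = 1)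
    (hpure : ∀ y : Y, ¬ IsOpen ({y} : Set Y)) (hE : FlatMod.IsFinLocFreeOfRank r E) :
    PosSub k (unit hL.1) (mc E) := by
  have := Flat2B.SmoothGeom.isReduced_of_smooth (Y ↘ Spec (CommRingCat.of k))
  refine posSub_of_torsionFree k hdim hpure hL (torsionFree_of_locFree fun x => ?_)
  obtain ⟨U, hx, h⟩ := hE x
  exact ⟨U, r, hx, h⟩

include hK hκ in
/-- `(κ, δ)`-semistable objects have bounded slopes. -/
theorem slopeLE_of_par (hdim : topologicalKrullDim Y = 1) (hE : FlatMod.IsFinLocFreeOfRank r E)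
    (hpos : PosSub k (unit hL.1) (mc E))
    {D : Y.Modules} {a b : ℕ} (T : DecSh.TF E a b D) (δ : ℚ) (hδ : 0 < δ) (hT : T.IsParSemistable k I K κ L δ) :
    SlopeLE k (unit hL.1) ((Curv2.euler k Y E : ℚ) / (DecSh.mult k Y L E : ℚ) +
      ((a : ℚ) * δ + (r : ℚ) * (ν : ℚ))) (mc E) := by
  have := IntAdd.isNoetherian k Y
  have hEc := isCoh_of_rank hE
  have hE0 := mult_nonneg k hL hEc hdim.le
  have ha : (0 : ℚ) ≤ (a : ℚ) := Nat.cast_nonneg a
  refine slopeLE_of hL hEc hpos (DecSh.mult k Y L E) (Curv2.euler k Y E) (by rw [← mult_eq]) (by rw [chi_mc]) _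
    (by positivity) fun F ι hι hF hF0 hiso => ?_
  have h1 := single_ineq k L δ T.nv hδ.le hE0 _ _ hT F ι hF hF0 hiso
  have h2 : 0 ≤ DecSh.mult k Y L F := mult_nonneg k hL hF hdim.le
  have h2' : (0 : ℚ) ≤ DecSh.mult k Y L F := by exact_mod_cast h2
  have hE0' : (0 : ℚ) ≤ DecSh.mult k Y L E := by exact_mod_cast hE0
  have hr : 1 ≤ r := by
    by_contra hr
    have hr0 : r = 0 := by omega
    have h3 := al_locFree k hdim hL hE
    rw [hr0, Nat.cast_zero, zero_mul] at h3
    have h4 := hpos _ (Sub.refl hEc) ((supp_nonempty_iff E).2 fun h => hF0 (h.of_mono ι))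
    omega
  have h3 := mul_nonneg (mul_nonneg hδ.le ha) h2'
  have h4 := (parChi_bounds k I K hK κ hκ hr (Subobject.mk ι).arrow).2
  rw [euler_mk] at h4
  have h5 := (parChi_bounds k I K hK κ hκ hr (𝟙 E)).1
  have h6 := mul_le_mul_of_nonneg_left h4 hE0'
  have h7 := mul_nonneg h2' h5
  linarith

end Par

end K987.DecShCurve
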