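import Groth.Agent.DecSh.K987.Dict
import Groth.Agent.PerfB.DualMod

/-!
# Uniform vanishing of `H¹` and uniform bounds for `h⁰` in terms of slopes, on a proper curve

`X` proper over a field, `dim X = 1`, `H` ample of class `v`.
* `IsDz k v w`: what is needed of the class `w` of the dualizing module; `exists_isDz`.
* `van`: if coherent submodules of `c` have slope `≤ C`, then `H¹(c(m)) = 0` for
  `m > h⁰(w) - χ(c) + |C| α(c)`.
* `h0_le`: then also `h⁰(c(m)) ≤ α(c) (m + |C| + h⁰(w))`.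
* `dichotomy`: for `m ≥ N` (uniform in `c`), either `H¹(c(m)) = 0` or `α h⁰(c(m)) - α(c)(e + mα) ≤ -K`.
-/

set_option autoImplicit false
universe u
open CategoryTheory CategoryTheory.Limits AlgebraicGeometry TopologicalSpace
open Groth.Agent.Fga.PicMon Groth.Agent.Fga Groth.Agent

namespace K987.DecShCurve

open Groth.Agent.Pic13.H11 Cls Amp

section

variable {X : Scheme.{u}} (k : Type u) [Field k] [X.Over (Spec (CommRingCat.of k))]

/-- What we need of the class of a dualizing module. -/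
structure IsDz (v : (MC X)ˣ) (w : MC X) : Prop where
  co : Co w
  hom : ∀ c, Co c → ¬ V 1 c → ∃ a q, Ses a c q ∧ Sub q w ∧ (supp q).Nonempty
  pos : PosSub k v w

variable [IsProper (X ↘ Spec (CommRingCat.of k))]

theorem exists_isDz (hdim : topologicalKrullDim X = 1) {H : X.Modules} (hH : CohB1.IsAmple H) :
    ∃ w : MC X, IsDz k (unit hH.1) w := by
  have := IntAdd.isNoetherian k X
  obtain ⟨ω, t, hω, ht⟩ := PerfB.DualMod.exists_rep k X 1 (by exact_mod_cast hdim)
  refine ⟨mc ω, hω, ?_, ?_⟩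
  · intro c hc hv
    induction c using MC.ind with | h F => ?_
    rw [V_mc] at hv
    obtain ⟨x, hx⟩ : ∃ x : CurvesC.HV X F 1, x ≠ 0 := by
      by_contra h
      push Not at h
      exact hv ⟨fun a b => (h a).trans (h b).symm⟩
    obtain ⟨ψ, hψ⟩ : ∃ ψ : CurvesC.HV X F 1 →ₗ[k] k, ψ x ≠ 0 := by
      by_contra h
      push Not at h
      exact hx ((Module.forall_dual_apply_eq_zero_iff k x).1 h)
    obtain ⟨φ, hφ⟩ := (ht F hc.1).2 ψ
    have hφ0 : φ ≠ 0 := by
      rintro rfl
      apply hψ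
      rw [← hφ]
      simp only [CurvesC.HV.map_zero, LinearMap.comp_zero, LinearMap.zero_apply]
    have hi : Coh.IsCoh (Abelian.image φ) :=
      Sga67.CohBasic.isCoh_kernel (cokernel.π φ) hω (Sga67.CohBasic.isCoh_cokernel φ hc.1 hω).1
    have hs := Ses.of_epi (Abelian.factorThruImage φ) hc hi
    refine ⟨_, _, hs, Sub.of_mono (Abelian.image.ι φ) hi hω, ?_⟩
    rw [supp_nonempty_iff]
    intro hz
    apply hφ0
    rw [← Abelian.image.fac φ, hz.eq_of_tgt (Abelian.factorThruImage φ) 0, zero_comp]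
  · intro a ha hne
    rcases dim_supp_cases hdim.le hne with h0 | h1
    · exfalso
      obtain ⟨F, i, hi, hF, -, rfl⟩ := ha.exists_mono
      have hV : V 1 (mc F) := V_of_dim k (c := mc F) hF (d := 0) (by rw [h0]; rfl) one_pos
      have hV' : Subsingleton (CurvesC.HV X F 1) := hV
      have hi0 : i = 0 := (ht F hF.1).1 (LinearMap.ext fun x => by
        change t _ = t _
        rw [Subsingleton.elim x 0]
        simp)
      refine (supp_nonempty_iff F).1 hne ?_
      rw [IsZero.iff_id_eq_zero]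
      rw [← cancel_mono i, hi0, comp_zero, comp_zero]
    · exact al_pos_of_dim k hdim.le hH ha.co₁ h1

end

section Van

variable {k : Type u} [Field k] {X : Scheme.{u}} [X.Over (Spec (CommRingCat.of k))]
  [IsProper (X ↘ Spec (CommRingCat.of k))] (hdim : topologicalKrullDim X ≤ 1)
  {H : X.Modules} (hH : CohB1.IsAmple H) {w : MC X} (hw : IsDz k (unit hH.1) w)

include hdim hw

/-- The basic dichotomy. -/
theorem van_or {c : MC X} (hc : Co c) (m : ℕ) : V 1 (unit hH.1 ^ m • c) ∨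
    ∃ a q, Ses a c q ∧ 1 ≤ al k (unit hH.1) q ∧ h k 0 (unit hH.1 ^ m • q) ≤ h k 0 w := by
  have := IntAdd.isNoetherian k X
  by_cases hv : V 1 (unit hH.1 ^ m • c)
  · exact Or.inl hv
  right
  obtain ⟨a, q, hs, hq, hne⟩ := hw.hom _ (hc.smul _) hv
  have hs' := hs.smul (unit hH.1 ^ m)⁻¹
  rw [inv_smul_smul] at hs'
  refine ⟨_, _, hs', ?_, ?_⟩
  · have h1 := hw.pos q hq hne
    have h2 := al_pow_smul k hdim (unit hH.1) (hs'.co₃) m
    rw [smul_inv_smul] at h2
    omega
  · rw [smul_inv_smul]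
    obtain ⟨q', hq'⟩ := hq
    exact hq'.h_zero_le k

/-- Uniform vanishing. -/
theorem van {c : MC X} (hc : Co c) {C : ℚ} (hs : SlopeLE k (unit hH.1) C c) (m : ℕ)
    (hm : (h k 0 w : ℚ) - chi k c + |C| * al k (unit hH.1) c < m) : V 1 (unit hH.1 ^ m • c) := by
  have := IntAdd.isNoetherian k X
  rcases van_or hdim hH hw hc m with hv | ⟨a, q, hses, hq1, hq0⟩
  · exact hv
  exfalso
  have e1 := chi_pow_smul k hdim (unit hH.1) hses.co₃ m
  have e2 := chi_le_h k hdim (hses.co₃.smul (unit hH.1 ^ m))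
  have e3 := hses.chi_eq k
  have e4 := al_ses k hses (unit hH.1)
  have e5 := hs a ⟨q, hses⟩
  have e6 := al_nonneg_of k hdim hH hses.co₁
  have e7 : C * (al k (unit hH.1) a : ℚ) ≤ |C| * (al k (unit hH.1) c : ℚ) := by
    refine (mul_le_mul_of_nonneg_right (le_abs_self C) (by exact_mod_cast e6)).trans ?_
    refine mul_le_mul_of_nonneg_left ?_ (abs_nonneg C)
    exact_mod_cast (by omega : al k (unit hH.1) a ≤ al k (unit hH.1) c)
  have e8 : (m : ℤ) ≤ (m : ℤ) * al k (unit hH.1) q := by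
    nlinarith [Int.natCast_nonneg m]
  have e9 : chi k c - chi k a + m ≤ h k 0 w := by
    have : (h k 0 (unit hH.1 ^ m • q) : ℤ) ≤ h k 0 w := by exact_mod_cast hq0
    omega
  have e10 : (chi k c : ℚ) - chi k a + m ≤ h k 0 w := by exact_mod_cast e9
  linarith

/-- Uniform bound of `h⁰`. -/
theorem h0_le {C : ℚ} (n : ℕ) : ∀ {c : MC X} (_ : Co c) (_ : SlopeLE k (unit hH.1) C c)
    (_ : al k (unit hH.1) c ≤ n) (m : ℕ),
    (h k 0 (unit hH.1 ^ m • c) : ℚ) ≤ al k (unit hH.1) c * (m + |C| + h k 0 w) := by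
  have := IntAdd.isNoetherian k X
  induction n with
  | zero =>
    intro c hc hs hn m
    have h0 := al_nonneg_of k hdim hH hc
    have h1 : al k (unit hH.1) c = 0 := by push_cast at hn; omega
    rcases van_or hdim hH hw hc m with hv | ⟨a, q, hses, hq1, hq0⟩
    · have e1 := chi_eq_h k hdim (hc.smul (unit hH.1 ^ m)) hv
      rw [chi_pow_smul k hdim _ hc] at e1
      have e2 := hs c (Sub.refl hc)
      rw [h1] at e1 e2 ⊢
      have e3 : (h k 0 (unit hH.1 ^ m • c) : ℚ) = chi k c := by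
        have : (h k 0 (unit hH.1 ^ m • c) : ℤ) = chi k c := by rw [← e1]; ring
        exact_mod_cast this
      rw [e3]
      push_cast at e2 ⊢
      linarith
    · exfalso
      have e4 := al_ses k hses (unit hH.1)
      have e6 := al_nonneg_of k hdim hH hses.co₁
      omega
  | succ n ih =>
    intro c hc hs hn m
    have h0 := al_nonneg_of k hdim hH hc
    have h0' : (0 : ℚ) ≤ al k (unit hH.1) c := by exact_mod_cast h0
    rcases van_or hdim hH hw hc m with hv | ⟨a, q, hses, hq1, hq0⟩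
    · have e1 := chi_eq_h k hdim (hc.smul (unit hH.1 ^ m)) hv
      rw [chi_pow_smul k hdim _ hc] at e1
      have e2 := hs c (Sub.refl hc)
      have e3 : (h k 0 (unit hH.1 ^ m • c) : ℚ) = chi k c + m * al k (unit hH.1) c := by
        exact_mod_cast e1.symm
      rw [e3]
      have e4 := mul_le_mul_of_nonneg_right (le_abs_self C) h0'
      have e5 : (0 : ℚ) ≤ al k (unit hH.1) c * h k 0 w := mul_nonneg h0' (Nat.cast_nonneg _)
      linarith
    · have e4 := al_ses k hses (unit hH.1)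
      have e6 := al_nonneg_of k hdim hH hses.co₁
      have e7 := ih hses.co₁ (hs.sub ⟨q, hses⟩) (by push_cast at hn; omega) m
      have e8 := (hses.smul (unit hH.1 ^ m)).h_le k 0
      have e9 : (h k 0 (unit hH.1 ^ m • c) : ℚ) ≤ h k 0 (unit hH.1 ^ m • a) + h k 0 w := by
        exact_mod_cast e8.trans (Nat.add_le_add_left hq0 _)
      have e10 : (al k (unit hH.1) a : ℚ) ≤ al k (unit hH.1) c - 1 := by
        exact_mod_cast (by omega : al k (unit hH.1) a ≤ al k (unit hH.1) c - 1)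
      have e11 : (0 : ℚ) ≤ m + |C| + h k 0 w := by positivity
      have e12 := mul_le_mul_of_nonneg_right e10 e11
      have e13 : (0 : ℚ) ≤ m + |C| := by positivity
      linarith

/-- The dichotomy for large twists: `H¹` vanishes or `h⁰` is small. -/
theorem dichotomy (C : ℚ) (α e : ℤ) (hα : 1 ≤ α) (K : ℚ) : ∃ N : ℕ, ∀ m : ℕ, N ≤ m → ∀ c : MC X, Co c →
    SlopeLE k (unit hH.1) C c → al k (unit hH.1) c ≤ α →
    V 1 (unit hH.1 ^ m • c) ∨
      (α : ℚ) * h k 0 (unit hH.1 ^ m • c) - al k (unit hH.1) c * (e + m * α) ≤ -K := by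
  have := IntAdd.isNoetherian k X
  set W : ℚ := (h k 0 w : ℚ) with hW
  obtain ⟨N, hN⟩ := exists_nat_ge ((α : ℚ) * α * (|C| + W) + α * W + α * |(e : ℚ)| + |K|)
  refine ⟨N, fun m hm c hc hs hα' => ?_⟩
  rcases van_or hdim hH hw hc m with hv | ⟨a, q, hses, hq1, hq0⟩
  · exact Or.inl hv
  right
  have hα1 : (1 : ℚ) ≤ α := by exact_mod_cast hα
  have e4 := al_ses k hses (unit hH.1)
  have e6 := al_nonneg_of k hdim hH hses.co₁
  have e7 := h0_le hdim hH hw (al k (unit hH.1) a).toNat hses.co₁ (hs.sub ⟨q, hses⟩)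
    (Int.self_le_toNat _) m
  have e8 := (hses.smul (unit hH.1 ^ m)).h_le k 0
  have e9 : (h k 0 (unit hH.1 ^ m • c) : ℚ) ≤ h k 0 (unit hH.1 ^ m • a) + W := by
    rw [hW]
    exact_mod_cast e8.trans (Nat.add_le_add_left hq0 _)
  have e10 : (al k (unit hH.1) a : ℚ) ≤ al k (unit hH.1) c - 1 := by
    exact_mod_cast (by omega : al k (unit hH.1) a ≤ al k (unit hH.1) c - 1)
  have hW0 : 0 ≤ W := Nat.cast_nonneg _
  have e11 : (0 : ℚ) ≤ m + |C| + W := by positivity
  have e12 := mul_le_mul_of_nonneg_right e10 e11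
  set x : ℚ := (al k (unit hH.1) c : ℚ) with hx
  have hxα : x ≤ α := by rw [hx]; exact_mod_cast hα'
  have hx0 : 0 ≤ x := by rw [hx]; exact_mod_cast al_nonneg_of k hdim hH hc
  have e13 : (h k 0 (unit hH.1 ^ m • c) : ℚ) ≤ (x - 1) * (m + |C| + W) + W := by linarith
  have e14 := mul_le_mul_of_nonneg_left e13 (by linarith : (0 : ℚ) ≤ α)
  have hm' : (α : ℚ) * α * (|C| + W) + α * W + α * |(e : ℚ)| + |K| ≤ m := hN.trans (by exact_mod_cast hm)
  have e15 : (x - 1) * (|C| + W) ≤ α * (|C| + W) :=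
    mul_le_mul_of_nonneg_right (by linarith) (by positivity)
  have e16 : (α : ℚ) * ((x - 1) * (|C| + W)) ≤ α * (α * (|C| + W)) :=
    mul_le_mul_of_nonneg_left e15 (by linarith)
  have e17 : -(x * e) ≤ α * |(e : ℚ)| := by
    have h1 : -(x * e) ≤ x * |(e : ℚ)| := by
      rw [← mul_neg]
      exact mul_le_mul_of_nonneg_left (neg_le_abs _) hx0
    exact h1.trans (mul_le_mul_of_nonneg_right hxα (abs_nonneg _))
  have e18 : (m : ℚ) ≤ α * m := by nlinarith [Nat.cast_nonneg (α := ℚ) m]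
  have e19 : K ≤ |K| := le_abs_self K
  nlinarith [e14, e16, e17, e18, hm', e19]

end Van

end K987.DecShCurve
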