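import Groth.Agent.DecSh.K987.Dict
import Groth.Agent.DecSh.K987.Van

/-!
# Sectional forms of δ-semistability on a curve

* `exists_sect`: for `m ≥ N` the sectional inequality holds for every filtration of a semistable object (with an additive
  correction `χ - d` of the degrees bounded by `B`, so that it applies to the parabolic case); steps with
  `H¹(F_i(m)) ≠ 0` contribute at most `-K` times their weight.
* `exists_van`: uniform vanishing of `H¹(E(m))`.
* `exists_quot`: the quotient sectional condition for one `m ≥ N` implies `H¹(E(m)) = 0`.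
* `semistable_iff_quot`: if `H¹(E(m)) = 0`, the quotient sectional condition is δ-semistability.
-/

set_option autoImplicit false
universe u
open CategoryTheory CategoryTheory.Limits AlgebraicGeometry TopologicalSpace
open Groth.Agent.Fga.PicMon Groth.Agent.Fga Groth.Agent

namespace K987.DecShCurve

open Groth.Agent.Pic13.H11 Cls Amp

variable {k : Type u} [Field k] {X : Scheme.{u}} [X.Over (Spec (CommRingCat.of k))]
  [IsProper (X ↘ Spec (CommRingCat.of k))] (hdim : topologicalKrullDim X ≤ 1)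
  {L : X.Modules} (hL : CohB1.IsAmple L)

section Terms

variable {E : X.Modules} (hE : Coh.IsCoh E)

include hdim

theorem euler_twist_eq (hL : CohB1.IsAmple L) {F : X.Modules} (hF : Coh.IsCoh F) (m : ℕ) :
    Curv2.euler k X (ShStab.twist X L F m) = Curv2.euler k X F + m * DecSh.mult k X L F := by
  rw [euler_twist k hL.1, chi_pow_smul k hdim _ (c := mc F) hF, chi_mc, mult_eq k hL.1]

theorem finrank_eq_of_V (hL : CohB1.IsAmple L) {F : X.Modules} (hF : Coh.IsCoh F) {m : ℕ}
    (hv : V 1 (unit hL.1 ^ m • mc F)) :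
    (Module.finrank k (Coh.HH X (ShStab.twist X L F m) 0) : ℤ) =
      Curv2.euler k X F + m * DecSh.mult k X L F := by
  rw [finrank_twist k hL.1, ← chi_eq_h k hdim (Co.smul (c := mc F) hF _) hv, chi_pow_smul k hdim _ (c := mc F) hF,
    chi_mc, mult_eq k hL.1]

theorem finrank_eq_euler_of_V (hL : CohB1.IsAmple L) {F : X.Modules} (hF : Coh.IsCoh F) {m : ℕ}
    (hv : V 1 (unit hL.1 ^ m • mc F)) :
    (Module.finrank k (Coh.HH X (ShStab.twist X L F m) 0) : ℤ) = Curv2.euler k X (ShStab.twist X L F m) := by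
  rw [finrank_eq_of_V hdim hL hF hv, euler_twist_eq hdim hL hF]

include hE

/-- The linear term of the sectional inequality, when `H¹(F(m)) = 0`. -/
theorem term_good {F : X.Modules} (hF : Coh.IsCoh F) {m : ℕ} (hv : V 1 (unit hL.1 ^ m • mc F)) (c d : ℚ) :
    (DecSh.mult k X L E : ℚ) * ((Module.finrank k (Coh.HH X (ShStab.twist X L F m) 0) : ℚ) - c) -
      (DecSh.mult k X L F : ℚ) * ((Curv2.euler k X (ShStab.twist X L E m) : ℚ) - d) =
    (DecSh.mult k X L E : ℚ) * ((Curv2.euler k X F : ℚ) - c) -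
      (DecSh.mult k X L F : ℚ) * ((Curv2.euler k X E : ℚ) - d) := by
  have h1 : (Module.finrank k (Coh.HH X (ShStab.twist X L F m) 0) : ℚ) =
      Curv2.euler k X F + m * DecSh.mult k X L F := by
    exact_mod_cast finrank_eq_of_V hdim hL hF hv
  rw [h1, euler_twist_eq hdim hL hE]
  push_cast
  ring

/-- The linear term of the quotient sectional inequality, when `H¹(E(m)) = 0`. -/
theorem coker_term_good {m : ℕ} (hv : V 1 (unit hL.1 ^ m • mc E)) (P : Subobject E)
    (hP : Coh.IsCoh (P : X.Modules)) :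
    (DecSh.mult k X L (cokernel P.arrow) : ℚ) * (Curv2.euler k X (ShStab.twist X L E m) : ℚ) -
      (DecSh.mult k X L E : ℚ) * (Module.finrank k (Coh.HH X (ShStab.twist X L (cokernel P.arrow) m) 0) : ℚ) =
    (DecSh.mult k X L E : ℚ) * (Curv2.euler k X (P : X.Modules) : ℚ) -
      (DecSh.mult k X L (P : X.Modules) : ℚ) * (Curv2.euler k X E : ℚ) := by
  have := IntAdd.isNoetherian k X
  have hs := ses_piece hE P hP
  have hv' : V 1 (unit hL.1 ^ m • mc (cokernel P.arrow)) :=
    (hs.smul (unit hL.1 ^ m)).V_right hv (V_of_two_le k hdim (hs.co₁.smul _) le_rfl)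
  have h1 : (Module.finrank k (Coh.HH X (ShStab.twist X L (cokernel P.arrow) m) 0) : ℚ) =
      Curv2.euler k X (cokernel P.arrow) + m * DecSh.mult k X L (cokernel P.arrow) := by
    exact_mod_cast finrank_eq_of_V hdim hL hs.co₃ hv'
  have h2 : (Curv2.euler k X E : ℚ) = Curv2.euler k X (P : X.Modules) + Curv2.euler k X (cokernel P.arrow) := by
    have := hs.chi_eq k
    rw [chi_mc, chi_mc, chi_mc] at this
    exact_mod_cast this
  have h3 : (DecSh.mult k X L E : ℚ) =
      DecSh.mult k X L (P : X.Modules) + DecSh.mult k X L (cokernel P.arrow) := by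
    have := al_ses k hs (unit hL.1)
    rw [← mult_eq, ← mult_eq, ← mult_eq] at this
    exact_mod_cast this
  rw [h1, euler_twist_eq hdim hL hE]
  push_cast
  rw [h2, h3]
  ring

include hL in
/-- The linear term of the quotient sectional inequality is at most that of the sectional inequality. -/
theorem coker_term_le (m : ℕ) (P : Subobject E) (hP : Coh.IsCoh (P : X.Modules)) :
    (DecSh.mult k X L (cokernel P.arrow) : ℚ) * (Curv2.euler k X (ShStab.twist X L E m) : ℚ) -
      (DecSh.mult k X L E : ℚ) * (Module.finrank k (Coh.HH X (ShStab.twist X L (cokernel P.arrow) m) 0) : ℚ) ≤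
    (DecSh.mult k X L E : ℚ) * (Module.finrank k (Coh.HH X (ShStab.twist X L (P : X.Modules) m) 0) : ℚ) -
      (DecSh.mult k X L (P : X.Modules) : ℚ) * (Curv2.euler k X (ShStab.twist X L E m) : ℚ) := by
  have := IntAdd.isNoetherian k X
  have hs := ses_piece hE P hP
  have h3 : (DecSh.mult k X L E : ℚ) =
      DecSh.mult k X L (P : X.Modules) + DecSh.mult k X L (cokernel P.arrow) := by
    have := al_ses k hs (unit hL.1)
    rw [← mult_eq, ← mult_eq, ← mult_eq] at this
    exact_mod_cast this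
  have h4 : (Curv2.euler k X (ShStab.twist X L E m) : ℚ) ≤
      (Module.finrank k (Coh.HH X (ShStab.twist X L (P : X.Modules) m) 0) : ℚ) +
        (Module.finrank k (Coh.HH X (ShStab.twist X L (cokernel P.arrow) m) 0) : ℚ) := by
    have h5 := chi_le_h k hdim (Co.smul (c := mc E) hE (unit hL.1 ^ m))
    have h6 := (hs.smul (unit hL.1 ^ m)).h_le k 0
    rw [finrank_twist k hL.1, finrank_twist k hL.1, euler_twist k hL.1]
    have h7 : chi k (unit hL.1 ^ m • mc E) ≤
      ((h k 0 (unit hL.1 ^ m • mc (P : X.Modules)) + h k 0 (unit hL.1 ^ m • mc (cokernel P.arrow)) : ℕ) : ℤ) :=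
      h5.trans (by exact_mod_cast h6)
    exact_mod_cast h7
  have h8 : (0 : ℚ) ≤ DecSh.mult k X L E := by exact_mod_cast mult_nonneg k hL hE hdim
  have h9 := mul_le_mul_of_nonneg_left h4 h8
  rw [h3] at h9 ⊢
  linarith

end Terms

section Main

include hdim

omit hdim in
theorem isZero_of_mult_le {E : X.Modules} (hE : Coh.IsCoh E) (hpos : PosSub k (unit hL.1) (mc E))
    (h : DecSh.mult k X L E ≤ 0) : IsZero E := by
  have := IntAdd.isNoetherian k X
  by_contra h0
  have h1 := hpos _ (Sub.refl hE) ((supp_nonempty_iff E).2 h0)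
  rw [← mult_eq] at h1
  omega

omit hdim in
theorem isEmpty_wfilt {E : X.Modules} (h : IsZero E) : IsEmpty (DecSh.WFilt E) :=
  ⟨fun 𝓕 => 𝓕.piece_nonzero ⟨0, 𝓕.t_pos⟩ (h.of_mono (𝓕.piece ⟨0, 𝓕.t_pos⟩).arrow)⟩

variable {w : MC X} (hw : IsDz k (unit hL.1) w)

include hw

/-- Uniform vanishing of `H¹`. -/
theorem exists_van (C : ℚ) (α e : ℤ) : ∃ N : ℕ, ∀ m : ℕ, N ≤ m → ∀ c : MC X, Co c →
    SlopeLE k (unit hL.1) C c → al k (unit hL.1) c = α → chi k c = e → V 1 (unit hL.1 ^ m • c) := by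
  obtain ⟨N, hN⟩ := exists_nat_gt ((h k 0 w : ℚ) - e + |C| * α)
  refine ⟨N, fun m hm c hc hs hα he => van hdim hL hw hc hs m ?_⟩
  rw [hα, he]
  exact hN.trans_le (by exact_mod_cast hm)

/-- Sectional inequalities from semistability. -/
theorem exists_sect (α e : ℤ) (hα : 1 ≤ α) (δ : ℚ) (hδ : 0 < δ) (a : ℕ) (B : ℚ) (K : ℚ) :
    ∃ N : ℕ, ∀ m : ℕ, N ≤ m → ∀ (E : X.Modules), Coh.IsCoh E → PosSub k (unit hL.1) (mc E) →
      DecSh.mult k X L E = α → Curv2.euler k X E = e →
      ∀ (Nv : DecSh.NV E a) (dE : ℚ) (d : Subobject E → ℚ),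
      (∀ P : Subobject E, Coh.IsCoh (P : X.Modules) → 0 ≤ (Curv2.euler k X (P : X.Modules) : ℚ) - d P ∧
        (Curv2.euler k X (P : X.Modules) : ℚ) - d P ≤ B) →
      0 ≤ (Curv2.euler k X E : ℚ) - dE → (Curv2.euler k X E : ℚ) - dE ≤ B →
      DecSh.IsDeltaSS (fun P => Coh.IsCoh (P : X.Modules)) (DecSh.mult k X L E)
        (fun P => DecSh.mult k X L (P : X.Modules)) dE d Nv δ →
      ∀ 𝓕 : DecSh.WFilt E, (∀ i, Coh.IsCoh ((𝓕.piece i : Subobject E) : X.Modules)) →
      ∃ J : Finset (Fin 𝓕.t), (∀ i ∈ J, V 1 (unit hL.1 ^ m • mc ((𝓕.piece i : Subobject E) : X.Modules))) ∧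
        (∑ i, 𝓕.wt i * ((DecSh.mult k X L E : ℚ) *
            ((Module.finrank k (Coh.HH X (ShStab.twist X L ((𝓕.piece i : Subobject E) : X.Modules) m) 0) : ℚ) -
              ((Curv2.euler k X ((𝓕.piece i : Subobject E) : X.Modules) : ℚ) - d (𝓕.piece i))) -
          (DecSh.mult k X L ((𝓕.piece i : Subobject E) : X.Modules) : ℚ) *
            ((Curv2.euler k X (ShStab.twist X L E m) : ℚ) - ((Curv2.euler k X E : ℚ) - dE)))) +
          δ * 𝓕.mu (DecSh.mult k X L E) (fun P => DecSh.mult k X L (P : X.Modules)) Nv ≤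
          -(K * ∑ i ∈ Finset.univ.filter (fun i => i ∉ J), 𝓕.wt i) := by
  classical
  have := IntAdd.isNoetherian k X
  obtain ⟨N, hN⟩ := dichotomy hdim hL hw ((e : ℚ) / α + (δ * a + B)) α e hα
    (δ * ((a : ℚ) * ((α : ℚ) - 1)) + α * B + K)
  refine ⟨N, fun m hm E hE hpos hEα hEe Nv dE d hd hdE0 hdEB hss 𝓕 hcoh => ?_⟩
  have hα1 : (1 : ℚ) ≤ α := by exact_mod_cast hα
  have ha : (0 : ℚ) ≤ (a : ℚ) := Nat.cast_nonneg a
  have hB : 0 ≤ B := hdE0.trans hdEB
  have hE0 : 0 ≤ DecSh.mult k X L E := by omega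
  have hslope : SlopeLE k (unit hL.1) ((e : ℚ) / α + (δ * a + B)) (mc E) := by
    refine slopeLE_of hL hE hpos α e (by rw [← mult_eq, hEα]) (by rw [chi_mc, hEe]) _
      (add_nonneg (mul_nonneg hδ.le ha) hB) fun F ι hι hF hF0 hiso => ?_
    have h1 := single_ineq k L δ Nv hδ.le hE0 dE d hss F ι hF hF0 hiso
    have h2 : 0 ≤ DecSh.mult k X L F := mult_nonneg k hL hF hdim
    have h2' : (0 : ℚ) ≤ DecSh.mult k X L F := by exact_mod_cast h2
    have h3 := mul_nonneg (mul_nonneg hδ.le ha) h2'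
    have h4 := (hd (Subobject.mk ι) (isCoh_mk ι hF)).2
    rw [euler_mk] at h4
    rw [hEα] at h1
    have h5 : (α : ℚ) * ((Curv2.euler k X F : ℚ) - d (Subobject.mk ι)) ≤ α * B :=
      mul_le_mul_of_nonneg_left h4 (by linarith)
    have h6 : (DecSh.mult k X L F : ℚ) * dE ≤ (DecSh.mult k X L F : ℚ) * e := by
      rw [← hEe]
      exact mul_le_mul_of_nonneg_left (by linarith) h2'
    linarith
  have h1 : ∀ i, 1 ≤ DecSh.mult k X L ((𝓕.piece i : Subobject E) : X.Modules) := fun i =>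
    one_le_mult k hL hE hpos _ (hcoh i) (𝓕.piece_nonzero i)
  have h2 : ∀ i, DecSh.mult k X L ((𝓕.piece i : Subobject E) : X.Modules) ≤ DecSh.mult k X L E := fun i =>
    mult_le k hL hE hdim _ (hcoh i)
  refine ⟨Finset.univ.filter fun i => V 1 (unit hL.1 ^ m • mc ((𝓕.piece i : Subobject E) : X.Modules)),
    fun i hi => (Finset.mem_filter.1 hi).2, ?_⟩
  refine DecShNum.drop 𝓕 (DecSh.mult k X L E) (fun P => DecSh.mult k X L (P : X.Modules)) Nv h1 h2 δ hδ.le _ _ K ?_ ?_
  · intro 𝓕₁ ε hp hwt hJ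
    have hcoh₁ : ∀ j, Coh.IsCoh ((𝓕₁.piece j : Subobject E) : X.Modules) := fun j => by
      rw [hp]; exact hcoh _
    have h3 := hss 𝓕₁ hcoh₁
    rw [DecSh.WFilt.msum] at h3
    refine le_trans (le_of_eq ?_) h3
    congr 1
    refine Finset.sum_congr rfl fun j _ => ?_
    congr 1
    rw [term_good hdim hL hE (hcoh _) (Finset.mem_filter.1 (hJ j)).2, hp j]
    ring
  · intro i hi
    have hv : ¬ V 1 (unit hL.1 ^ m • mc ((𝓕.piece i : Subobject E) : X.Modules)) := fun hv =>
      hi (Finset.mem_filter.2 ⟨Finset.mem_univ _, hv⟩)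
    rcases hN m hm (mc ((𝓕.piece i : Subobject E) : X.Modules)) (hcoh i) (hslope.sub (sub_piece hE _ (hcoh i))) (by
      rw [← mult_eq, ← hEα]; exact h2 i) with h3 | h3
    · exact absurd h3 hv
    rw [← mult_eq, ← finrank_twist k hL.1] at h3
    rw [euler_twist_eq hdim hL hE, hEα, hEe]
    have h4 := (hd _ (hcoh i)).1
    have h5 : (1 : ℚ) ≤ DecSh.mult k X L ((𝓕.piece i : Subobject E) : X.Modules) := by exact_mod_cast h1 i
    have h6 : (DecSh.mult k X L ((𝓕.piece i : Subobject E) : X.Modules) : ℚ) ≤ α := by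
      rw [← hEα]
      exact_mod_cast h2 i
    rw [hEe] at hdE0 hdEB
    have h7 := mul_nonneg (by linarith : (0 : ℚ) ≤ α) h4
    have h8 : (DecSh.mult k X L ((𝓕.piece i : Subobject E) : X.Modules) : ℚ) * (e - dE) ≤ α * B :=
      mul_le_mul h6 hdEB hdE0 (by linarith)
    push_cast
    linarith

/-- The quotient sectional condition at one large `m` forces `H¹(E(m)) = 0`. -/
theorem exists_quot (α e : ℤ) (hα : 1 ≤ α) (δ : ℚ) (hδ : 0 < δ) (a : ℕ) :
    ∃ N : ℕ, ∀ m : ℕ, N ≤ m → ∀ (E : X.Modules), Coh.IsCoh E →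
      DecSh.mult k X L E = α → Curv2.euler k X E = e → ∀ (D : X.Modules) (b : ℕ) (T : DecSh.TF E a b D),
      (∀ 𝓕 : DecSh.WFilt E, (∀ i, Coh.IsCoh ((𝓕.piece i : Subobject E) : X.Modules)) →
        (∑ i, 𝓕.wt i * ((DecSh.mult k X L (cokernel (𝓕.piece i).arrow) : ℚ) *
            (Curv2.euler k X (ShStab.twist X L E m) : ℚ) -
          (α : ℚ) * (Module.finrank k (Coh.HH X (ShStab.twist X L (cokernel (𝓕.piece i).arrow) m) 0) : ℚ))) +
          δ * T.mu k L 𝓕 ≤ 0) →
      V 1 (unit hL.1 ^ m • mc E) := by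
  have := IntAdd.isNoetherian k X
  obtain ⟨N, hN⟩ := exists_nat_gt ((α : ℚ) * h k 0 w + |(e : ℚ)| + δ * a)
  refine ⟨N, fun m hm E hE hEα hEe D b T hT => ?_⟩
  have hα1 : (1 : ℚ) ≤ α := by exact_mod_cast hα
  have hm' : (α : ℚ) * h k 0 w + |(e : ℚ)| + δ * a < m := hN.trans_le (by exact_mod_cast hm)
  have ha : (0 : ℚ) ≤ (a : ℚ) := Nat.cast_nonneg a
  have hmα : (m : ℚ) ≤ m * α := le_mul_of_one_le_right (Nat.cast_nonneg _) hα1
  have hW : (0 : ℚ) ≤ h k 0 w := Nat.cast_nonneg _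
  have hWα : (h k 0 w : ℚ) ≤ α * h k 0 w := le_mul_of_one_le_left hW hα1
  have he := neg_abs_le (e : ℚ)
  have hδa := mul_nonneg hδ.le ha
  rcases van_or hdim hL hw (c := mc E) hE m with hv | ⟨c, q, hs, hq1, hq0⟩
  · exact hv
  exfalso
  have hq1' : (1 : ℚ) ≤ al k (unit hL.1) q := by exact_mod_cast hq1
  have hq0' : (h k 0 (unit hL.1 ^ m • q) : ℚ) ≤ h k 0 w := by exact_mod_cast hq0
  obtain ⟨F, ι, hι, hF, rfl, rfl⟩ := Ses.exists_mono hs
  by_cases hF0 : IsZero F
  · -- `E = q`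
    have h1 := hs.chi_eq k
    have h2 := al_ses k hs (unit hL.1)
    rw [chi_zero k hF hF0] at h1
    rw [al_zero k hF hF0] at h2
    have h3 := chi_le_h k hdim (hs.co₃.smul (unit hL.1 ^ m))
    rw [chi_pow_smul k hdim _ hs.co₃] at h3
    have h4 : chi k (mc E) = e := by rw [chi_mc, hEe]
    have h5 : al k (unit hL.1) (mc E) = α := by rw [← mult_eq, hEα]
    have h6 : e + m * α ≤ h k 0 (unit hL.1 ^ m • mc (cokernel ι)) := by
      have e1 : chi k (mc (cokernel ι)) = e := by omega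
      have e2 : al k (unit hL.1) (mc (cokernel ι)) = α := by omega
      rw [e1, e2] at h3
      exact h3
    have h7 : (e : ℚ) + m * α ≤ h k 0 (unit hL.1 ^ m • mc (cokernel ι)) := by exact_mod_cast h6
    linarith
  · by_cases hiso : IsIso ι
    · have h1 : IsZero (cokernel ι) := isZero_cokernel_of_epi ι
      rw [al_zero k hs.co₃ h1] at hq1
      omega
    · have h1 := hT (DecSh.WFilt.single (Subobject.mk ι) (mk_ne_top ι hiso) (mk_nonzero ι hF0))
        (fun _ => isCoh_mk ι hF)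
      have h2 := DecShNum.le_mu (DecSh.WFilt.single (Subobject.mk ι) (mk_ne_top ι hiso) (mk_nonzero ι hF0))
        (DecSh.mult k X L E) (fun P => DecSh.mult k X L (P : X.Modules)) (by omega) T.nv
      have h3 : ∀ f : Fin (DecSh.WFilt.single (Subobject.mk ι) (mk_ne_top ι hiso) (mk_nonzero ι hF0)).t → ℚ,
          ∑ i, f i = f ⟨0, Nat.one_pos⟩ := by
        intro f
        exact Fin.sum_univ_one f
      rw [h3] at h1
      rw [h3] at h2
      change (1 : ℚ) * ((DecSh.mult k X L (cokernel (Subobject.mk ι).arrow) : ℚ) *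
        (Curv2.euler k X (ShStab.twist X L E m) : ℚ) -
        (α : ℚ) * (Module.finrank k (Coh.HH X (ShStab.twist X L (cokernel (Subobject.mk ι).arrow) m) 0) : ℚ)) +
          δ * _ ≤ 0 at h1
      change -((1 : ℚ) * ((a : ℚ) * ((DecSh.mult k X L E : ℚ) -
        (DecSh.mult k X L ((Subobject.mk ι : Subobject E) : X.Modules) : ℚ)))) ≤
          T.mu k L (DecSh.WFilt.single (Subobject.mk ι) (mk_ne_top ι hiso) (mk_nonzero ι hF0)) at h2
      rw [mult_mk, mult_eq k hL.1, mult_eq k hL.1] at h2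
      rw [mult_eq k hL.1, finrank_twist k hL.1, mc_coker_mk, euler_twist_eq hdim hL hE, hEα, hEe] at h1
      have h4 := al_ses k hs (unit hL.1)
      have h5 : (al k (unit hL.1) (mc E) : ℚ) - al k (unit hL.1) (mc F) =
          al k (unit hL.1) (mc (cokernel ι)) := by
        rw [h4]; push_cast; ring
      rw [h5] at h2
      have h6 := mul_le_mul_of_nonneg_left h2 hδ.le
      set y : ℚ := (al k (unit hL.1) (mc (cokernel ι)) : ℚ) with hy
      set z : ℚ := (h k 0 (unit hL.1 ^ m • mc (cokernel ι)) : ℚ) with hz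
      have h7 : (α : ℚ) * z ≤ α * h k 0 w := mul_le_mul_of_nonneg_left hq0' (by linarith)
      have h8 : y * (e + m * α - δ * a) ≤ α * h k 0 w := by
        push_cast at h1
        linarith
      have h10 : (0 : ℚ) ≤ e + m * α - δ * a := by
        have := mul_nonneg (by linarith : (0 : ℚ) ≤ α) hW
        linarith
      have h11 : (e : ℚ) + m * α - δ * a ≤ y * (e + m * α - δ * a) := le_mul_of_one_le_left h10 hq1'
      linarith

omit hw in
/-- If `H¹(E(m)) = 0`, the quotient sectional condition is δ-semistability. -/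
theorem semistable_iff_quot {E : X.Modules} (hE : Coh.IsCoh E) {α : ℤ} (hEα : DecSh.mult k X L E = α)
    (δ : ℚ) {D : X.Modules} {a b : ℕ} (T : DecSh.TF E a b D) {m : ℕ} (hv : V 1 (unit hL.1 ^ m • mc E)) :
    T.IsSemistable k L δ ↔ ∀ 𝓕 : DecSh.WFilt E, (∀ i, Coh.IsCoh ((𝓕.piece i : Subobject E) : X.Modules)) →
        (∑ i, 𝓕.wt i * ((DecSh.mult k X L (cokernel (𝓕.piece i).arrow) : ℚ) *
            (Curv2.euler k X (ShStab.twist X L E m) : ℚ) -
          (α : ℚ) * (Module.finrank k (Coh.HH X (ShStab.twist X L (cokernel (𝓕.piece i).arrow) m) 0) : ℚ))) +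
          δ * T.mu k L 𝓕 ≤ 0 := by
  refine forall_congr' fun 𝓕 => forall_congr' fun hcoh => ?_
  have h1 : (∑ i, 𝓕.wt i * ((DecSh.mult k X L (cokernel (𝓕.piece i).arrow) : ℚ) *
      (Curv2.euler k X (ShStab.twist X L E m) : ℚ) -
      (α : ℚ) * (Module.finrank k (Coh.HH X (ShStab.twist X L (cokernel (𝓕.piece i).arrow) m) 0) : ℚ))) =
      𝓕.chiSum k L := by
    rw [DecSh.WFilt.chiSum, DecSh.WFilt.msum]
    refine Finset.sum_congr rfl fun i _ => ?_
    rw [← hEα, coker_term_good hdim hL hE hv _ (hcoh i)]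
  rw [h1]
  rfl

end Main

end K987.DecShCurve
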