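import Groth.Agent.DecSh.K987.Curve
import Groth.Agent.Divis.StalkMod
import Groth.Prelude.Def_TorSh

/-!
# Torsion free coherent modules on a reduced curve without isolated points

* `torsionFree_of`: a quasi-coherent module with torsion free stalks on a reduced locally Noetherian scheme with
  finitely many generic points is torsion free in the sense of `CurvesB.GenStalk.TorsionFree`.
* `exists_nongen_of_pure`: if no point is open, every generic point has a proper specialization.
* `posSub_of_torsionFree`: nonzero coherent submodules of a torsion free coherent module have positive multiplicity.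
-/

set_option autoImplicit false
universe u
open CategoryTheory CategoryTheory.Limits AlgebraicGeometry TopologicalSpace Opposite
open Groth.Agent.Fga.PicMon Groth.Agent.Fga Groth.Agent
open Groth.Agent.CurvesB.SubH1 Groth.Agent.CurvesB.GenStalk Groth.Agent.CurvesB.SubClosed
open Groth.Agent.CycB.StalkExact

namespace K987.DecShCurve

variable {X : Scheme.{u}}

/-- On a reduced scheme the germs of a function which is nonzero at all generic points are regular. -/
theorem isRegular_germ [IsReduced X] {V : X.Opens} (t : Γ(X, V))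
    (ht : ∀ (ξ : X) (hξ : ξ ∈ V), IsGen ξ → X.presheaf.germ V ξ hξ t ≠ 0) (x : X) (hx : x ∈ V) :
    IsRegular (X.presheaf.germ V x hx t) := by
  rw [isRegular_iff_mem_nonZeroDivisors, mem_nonZeroDivisors_iff_right]
  intro b hb
  obtain ⟨W, hxW, b, rfl⟩ := X.presheaf.exists_germ_eq b
  change X.Opens at W
  have hxWV : x ∈ W ⊓ V := ⟨hxW, hx⟩
  have h1 : X.presheaf.germ (W ⊓ V) x hxWV
      (X.presheaf.map (homOfLE inf_le_left).op b * X.presheaf.map (homOfLE inf_le_right).op t) = 0 := by
    rw [map_mul, TopCat.Presheaf.germ_res_apply, TopCat.Presheaf.germ_res_apply]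
    exact hb
  obtain ⟨W', hxW', i, i', hW'⟩ := X.presheaf.germ_eq x hxWV hxWV _ 0 (by rw [h1, map_zero])
  have h2 : X.presheaf.map (i ≫ homOfLE inf_le_left).op b = 0 := by
    refine eq_zero_of_germ_gen W' _ fun ξ hξ hg => ?_
    have h3 := congrArg (X.presheaf.germ W' ξ hξ) hW'
    rw [TopCat.Presheaf.germ_res_apply, TopCat.Presheaf.germ_res_apply, map_mul, map_zero,
      TopCat.Presheaf.germ_res_apply, TopCat.Presheaf.germ_res_apply] at h3
    rw [TopCat.Presheaf.germ_res_apply]
    have hf := isField_stalk ξ hg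
    let := hf.toField
    rcases mul_eq_zero.1 h3 with h4 | h4
    · exact h4
    · exact absurd h4 (ht ξ _ hg)
  rw [← TopCat.Presheaf.germ_res_apply X.presheaf (i ≫ homOfLE inf_le_left) x hxW' b, h2, map_zero]

/-- Stalkwise torsion free quasi-coherent modules are torsion free. -/
theorem torsionFree_of [IsReduced X] [NoetherianSpace X] {F : X.Modules} (hF : Coh.IsQCoh F)
    (htf : ∀ x : X, Module.IsTorsionFree (X.presheaf.stalk x) (F.presheaf.stalk x)) : TorsionFree F := by
  intro U s hs
  refine VarietyA.FiniteSupport.section_eq F s 0 fun x hx => ?_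
  rw [map_zero]
  obtain ⟨V, hV, hxV, hVU⟩ := exists_isAffineOpen_mem_and_subset (x := x) (U := U) hx
  have hVU' : V ≤ U := hVU
  set s' : Γ(F, V) := F.presheaf.map (homOfLE hVU').op s with hs'
  have hs'g : ∀ (ξ : X) (hξ : ξ ∈ V), IsGen ξ → F.presheaf.germ V ξ hξ s' = 0 := by
    intro ξ hξ hg
    rw [hs', TopCat.Presheaf.germ_res_apply]
    exact hs ξ (hVU' hξ) hg
  let I : Ideal Γ(X, V) := LinearMap.ker (LinearMap.toSpanSingleton Γ(X, V) Γ(F, V) s')
  let f : V → Ideal Γ(X, V) := fun ξ => (IsLocalRing.maximalIdeal (X.presheaf.stalk ξ.1)).comap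
    (X.presheaf.germ V ξ.1 ξ.2).hom
  have hfin : {ξ : V | IsGen ξ.1}.Finite :=
    Set.Finite.preimage Subtype.val_injective.injOn (finite_isGen X)
  have hnot : ¬ ((I : Set Γ(X, V)) ⊆ ⋃ ξ ∈ {ξ : V | IsGen ξ.1}, f ξ) := by
    rw [Ideal.subset_union_prime_finite hfin ⟨x, hxV⟩ ⟨x, hxV⟩ (fun i _ _ _ => inferInstance)]
    push Not
    intro ξ hξ hle
    refine Divis.StalkMod.stalk_elim F hF hV ξ.1 ξ.2 ?_
    intro _ _ _ _ l hl hr _
    have h1 : l s' = 0 := by rw [hl]; exact hs'g ξ.1 ξ.2 hξ
    rw [IsLocalizedModule.eq_zero_iff (hV.primeIdealOf ⟨ξ.1, ξ.2⟩).asIdeal.primeCompl] at h1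
    obtain ⟨c, hc⟩ := h1
    have h2 : (c : Γ(X, V)) ∈ I := by
      rw [LinearMap.mem_ker, LinearMap.toSpanSingleton_apply]
      exact hc
    have h3 := hle h2
    have h4 : IsUnit (algebraMap Γ(X, V) (X.presheaf.stalk ξ.1) c) :=
      (IsLocalization.AtPrime.isUnit_to_map_iff _ (hV.primeIdealOf ⟨ξ.1, ξ.2⟩).asIdeal _).2 c.2
    rw [hr] at h4
    exact h3 h4
  rw [Set.not_subset] at hnot
  obtain ⟨t, htI, ht⟩ := hnot
  have ht' : ∀ (ξ : X) (hξ : ξ ∈ V), IsGen ξ → X.presheaf.germ V ξ hξ t ≠ 0 := by
    intro ξ hξ hg h0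
    apply ht
    simp only [Set.mem_iUnion]
    refine ⟨⟨ξ, hξ⟩, hg, ?_⟩
    change (X.presheaf.germ V ξ hξ).hom t ∈ IsLocalRing.maximalIdeal _
    change X.presheaf.germ V ξ hξ t ∈ IsLocalRing.maximalIdeal _
    rw [h0]
    exact Ideal.zero_mem _
  have hreg := isRegular_germ t ht' x hxV
  have hts : t • s' = 0 := htI
  have h5 : X.presheaf.germ V x hxV t • F.presheaf.germ V x hxV s' = 0 := by
    rw [← germ_smul, hts, map_zero]
  have := htf x
  have h6 : F.presheaf.germ V x hxV s' = 0 :=
    (hreg.isSMulRegular (M := F.presheaf.stalk x)).right_eq_zero_of_smul h5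
  rwa [hs', TopCat.Presheaf.germ_res_apply] at h6

/-- If no point is open, every generic point has a proper specialization. -/
theorem exists_nongen_of_pure [NoetherianSpace X] (hpure : ∀ x : X, ¬ IsOpen ({x} : Set X)) (ξ : X)
    (hξ : IsGen ξ) : ∃ x, ξ ⤳ x ∧ x ≠ ξ := by
  by_contra h
  push Not at h
  apply hpure ξ
  set T : Set X := {η | IsGen η ∧ η ≠ ξ} with hT
  have hfin : T.Finite := (finite_isGen X).subset fun η hη => hη.1
  have : ({ξ} : Set X) = (closure T)ᶜ := by
    ext x
    rw [Set.mem_singleton_iff, Set.mem_compl_iff, mem_closure_iff_of_finite hfin]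
    constructor
    · rintro rfl ⟨t, ht, htx⟩
      exact ht.2 (hξ t htx)
    · intro hx
      obtain ⟨η, hη, hηx⟩ := exists_isGen_specializes x
      by_cases he : η = ξ
      · subst he
        exact h x hηx
      · exact absurd ⟨η, ⟨hη, he⟩, hηx⟩ hx
  rw [this]
  exact isClosed_closure.isOpen_compl

theorem stalk_torsionFree_of_mono {F E : X.Modules} (i : F ⟶ E) [Mono i] (hE : TorSh.IsTorsionFree E) :
    TorSh.IsTorsionFree F := by
  intro x
  have := hE x
  exact Function.Injective.moduleIsTorsionFree (stalkLin i x) (stalkLin_injective i x)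
    fun r m => map_smul _ r m

open Groth.Agent.Pic13.H11 Cls Amp in
/-- Nonzero coherent submodules of a torsion free coherent module have positive multiplicity. -/
theorem posSub_of_torsionFree (k : Type u) [Field k] [X.Over (Spec (CommRingCat.of k))]
    [IsProper (X ↘ Spec (CommRingCat.of k))] [IsReduced X] (hdim : topologicalKrullDim X = 1)
    (hpure : ∀ x : X, ¬ IsOpen ({x} : Set X)) {H : X.Modules} (hH : CohB1.IsAmple H) {E : X.Modules}
    (htf : TorSh.IsTorsionFree E) : PosSub k (unit hH.1) (mc E) := by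
  have := IntAdd.isNoetherian k X
  intro a ha hne
  obtain ⟨F, i, hi, hF, -, rfl⟩ := ha.exists_mono
  have htF := torsionFree_of hF.1 (stalk_torsionFree_of_mono i htf)
  rcases dim_supp_cases hdim.le hne with h0 | h1
  · exfalso
    have hcl : IsClosed (CohB1.support F) := VarietyA.GlobGen.isClosed_support F hF.2
    have hsmall : IsSmall F := by
      intro ξ hξ
      by_contra hns
      obtain ⟨y, hy, hyne⟩ := exists_nongen_of_pure hpure ξ hξ
      have hys : y ∈ CohB1.support F := hy.mem_closed hcl hns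
      have hq : QuasiSober (CohB1.support F) := hcl.isClosedEmbedding_subtypeVal.quasiSober
      have h0' : topologicalKrullDim (CohB1.support F) ≤ 0 := le_of_eq h0
      rw [dim_nonpos_iff] at h0'
      have h2 := h0' ⟨ξ, hns⟩ ⟨y, hys⟩ ((subtype_specializes_iff _ _).mpr hy)
      exact hyne (congrArg Subtype.val h2)
    obtain ⟨x, hx⟩ := hne
    apply hx
    refine subsingleton_of_forall_eq 0 fun m => ?_
    obtain ⟨V, hxV, s, rfl⟩ := F.presheaf.exists_germ_eq m
    have : s = 0 := htF V s fun ξ hξ hg => by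
      have := hsmall ξ hg
      exact Subsingleton.elim _ _
    rw [this, map_zero]
  · exact al_pos_of_dim k hdim.le hH hF h1

end K987.DecShCurve
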