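import Groth.Agent.DecSh.K987.Sect
import Groth.Agent.DecSh.K987.Tor

/-!
# The sectional characterisations of δ-semistability for torsion free modules on a reduced curve

* `exists_unif`: one threshold `N₀` for the three sectional facts.
-/

set_option autoImplicit false
universe u
open CategoryTheory CategoryTheory.Limits AlgebraicGeometry TopologicalSpace
open Groth.Agent.Fga.PicMon Groth.Agent.Fga Groth.Agent

namespace K987.DecShCurve

open Groth.Agent.Pic13.H11 Cls Amp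

variable {k : Type u} [Field k] {X : Scheme.{u}} [X.Over (Spec (CommRingCat.of k))]
  [IsProper (X ↘ Spec (CommRingCat.of k))] [IsReduced X] (hdim : topologicalKrullDim X = 1)
  (hpure : ∀ x : X, ¬ IsOpen ({x} : Set X)) {L : X.Modules} (hL : CohB1.IsAmple L)

/-- The sectional condition at `m`. -/
def SectCond (k : Type u) [Field k] {X : Scheme.{u}} [X.Over (Spec (CommRingCat.of k))] (L : X.Modules) (δ : ℚ)
    (α : ℤ) (m : ℕ) {E D : X.Modules} {a b : ℕ} (T : DecSh.TF E a b D) : Prop :=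
  ∀ 𝓕 : DecSh.WFilt E, (∀ i, Coh.IsCoh ((𝓕.piece i : Subobject E) : X.Modules)) →
    (∑ i, 𝓕.wt i * ((α : ℚ) *
        (Module.finrank k (Coh.HH X (ShStab.twist X L ((𝓕.piece i : Subobject E) : X.Modules) m) 0) : ℚ) -
      (DecSh.mult k X L ((𝓕.piece i : Subobject E) : X.Modules) : ℚ) *
        (Curv2.euler k X (ShStab.twist X L E m) : ℚ))) + δ * T.mu k L 𝓕 ≤ 0

/-- The quotient sectional condition at `m`. -/
def QuotCond (k : Type u) [Field k] {X : Scheme.{u}} [X.Over (Spec (CommRingCat.of k))] (L : X.Modules) (δ : ℚ)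
    (α : ℤ) (m : ℕ) {E D : X.Modules} {a b : ℕ} (T : DecSh.TF E a b D) : Prop :=
  ∀ 𝓕 : DecSh.WFilt E, (∀ i, Coh.IsCoh ((𝓕.piece i : Subobject E) : X.Modules)) →
    (∑ i, 𝓕.wt i * ((DecSh.mult k X L (cokernel (𝓕.piece i).arrow) : ℚ) *
        (Curv2.euler k X (ShStab.twist X L E m) : ℚ) -
      (α : ℚ) * (Module.finrank k (Coh.HH X (ShStab.twist X L (cokernel (𝓕.piece i).arrow) m) 0) : ℚ))) +
      δ * T.mu k L 𝓕 ≤ 0

omit [IsReduced X] in
include hL in
theorem quotCond_of_sectCond (hdim : topologicalKrullDim X ≤ 1) {E D : X.Modules} (hE : Coh.IsCoh E) {α : ℤ}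
    (hα : DecSh.mult k X L E = α) (δ : ℚ) {a b : ℕ} (T : DecSh.TF E a b D) (m : ℕ)
    (h : SectCond k L δ α m T) : QuotCond k L δ α m T := by
  intro 𝓕 hcoh
  refine le_trans ?_ (h 𝓕 hcoh)
  refine add_le_add_left (Finset.sum_le_sum fun i _ => ?_) _
  refine mul_le_mul_of_nonneg_left ?_ (𝓕.wt_pos i).le
  rw [← hα]
  exact coker_term_le hdim hL hE m _ (hcoh i)

include hL hdim hpure

/-- A semistable object is sectionally semistable, with strict inequality unless all `H¹(F_i(m))` vanish. -/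
theorem exists_sectCond (δ : ℚ) (hδ : 0 < δ) (α e : ℤ) (a : ℕ) : ∃ N : ℕ, ∀ m : ℕ, N ≤ m →
    ∀ (E : X.Modules), Coh.IsCoh E → TorSh.IsTorsionFree E → DecSh.mult k X L E = α → Curv2.euler k X E = e →
      ∀ (D : X.Modules) (b : ℕ) (T : DecSh.TF E a b D), T.IsSemistable k L δ →
      ∀ 𝓕 : DecSh.WFilt E, (∀ i, Coh.IsCoh ((𝓕.piece i : Subobject E) : X.Modules)) →
      ∃ J : Finset (Fin 𝓕.t), (∀ i ∈ J, V 1 (unit hL.1 ^ m • mc ((𝓕.piece i : Subobject E) : X.Modules))) ∧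
        (∑ i, 𝓕.wt i * ((α : ℚ) *
            (Module.finrank k (Coh.HH X (ShStab.twist X L ((𝓕.piece i : Subobject E) : X.Modules) m) 0) : ℚ) -
          (DecSh.mult k X L ((𝓕.piece i : Subobject E) : X.Modules) : ℚ) *
            (Curv2.euler k X (ShStab.twist X L E m) : ℚ))) + δ * T.mu k L 𝓕 ≤
          -(∑ i ∈ Finset.univ.filter (fun i => i ∉ J), 𝓕.wt i) := by
  obtain ⟨w, hw⟩ := exists_isDz k hdim hL
  by_cases hα : 1 ≤ α
  · obtain ⟨N, hN⟩ := exists_sect hdim.le hL hw α e hα δ hδ a 0 1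
    refine ⟨N, fun m hm E hE htf hEα hEe D b T hT 𝓕 hcoh => ?_⟩
    obtain ⟨J, hJ, h1⟩ := hN m hm E hE (posSub_of_torsionFree k hdim hpure hL htf) hEα hEe T.nv
      (Curv2.euler k X E : ℚ) (fun P => (Curv2.euler k X (P : X.Modules) : ℚ))
      (fun P _ => by rw [sub_self]; exact ⟨le_rfl, le_rfl⟩) (by rw [sub_self]) (by rw [sub_self]) hT 𝓕 hcoh
    refine ⟨J, hJ, ?_⟩
    simp only [sub_self, sub_zero, one_mul] at h1
    rw [← hEα]
    exact h1
  · refine ⟨0, fun m _ E hE htf hEα hEe D b T hT 𝓕 hcoh => ?_⟩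
    have := isEmpty_wfilt (isZero_of_mult_le (k := k) hL hE (posSub_of_torsionFree k hdim hpure hL htf) (by omega))
    exact isEmptyElim 𝓕

/-- The three sectional facts, with one threshold. -/
theorem sect_iff (δ : ℚ) (hδ : 0 < δ) (α e : ℤ) (a : ℕ) : ∃ N : ℕ, ∀ m : ℕ, N ≤ m →
    ∀ (E : X.Modules), Coh.IsCoh E → TorSh.IsTorsionFree E → DecSh.mult k X L E = α → Curv2.euler k X E = e →
      ∀ (D : X.Modules) (b : ℕ) (T : DecSh.TF E a b D),
      (T.IsSemistable k L δ ↔ SectCond k L δ α m T) ∧ (T.IsSemistable k L δ ↔ QuotCond k L δ α m T) ∧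
        (T.IsSemistable k L δ → Subsingleton (Coh.HH X (ShStab.twist X L E m) 1)) := by
  obtain ⟨w, hw⟩ := exists_isDz k hdim hL
  obtain ⟨N₁, hN₁⟩ := exists_sectCond (k := k) hdim hpure hL δ hδ α e a
  obtain ⟨N₂, hN₂⟩ := exists_van hdim.le hL hw ((e : ℚ) / α + δ * a) α e
  obtain ⟨N₃, hN₃⟩ : ∃ N : ℕ, ∀ m : ℕ, N ≤ m → ∀ (E : X.Modules), Coh.IsCoh E → TorSh.IsTorsionFree E →
      DecSh.mult k X L E = α → Curv2.euler k X E = e → ∀ (D : X.Modules) (b : ℕ) (T : DecSh.TF E a b D),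
      QuotCond k L δ α m T → T.IsSemistable k L δ := by
    by_cases hα : 1 ≤ α
    · obtain ⟨N, hN⟩ := exists_quot hdim.le hL hw α e hα δ hδ a
      refine ⟨N, fun m hm E hE htf hEα hEe D b T hT => ?_⟩
      exact (semistable_iff_quot hdim.le hL hE hEα δ T (hN m hm E hE hEα hEe D b T hT)).2 hT
    · refine ⟨0, fun m _ E hE htf hEα hEe D b T _ => ?_⟩
      have := isEmpty_wfilt (isZero_of_mult_le (k := k) hL hE (posSub_of_torsionFree k hdim hpure hL htf) (by omega))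
      exact fun 𝓕 => isEmptyElim 𝓕
  refine ⟨N₁ + N₂ + N₃, fun m hm E hE htf hEα hEe D b T => ?_⟩
  have key : T.IsSemistable k L δ → SectCond k L δ α m T := by
    intro hT 𝓕 hcoh
    obtain ⟨J, -, h1⟩ := hN₁ m (by omega) E hE htf hEα hEe D b T hT 𝓕 hcoh
    refine h1.trans (neg_nonpos.2 (Finset.sum_nonneg fun i _ => (𝓕.wt_pos i).le))
  have key2 := quotCond_of_sectCond hL hdim.le hE hEα δ T m
  have key3 := hN₃ m (by omega) E hE htf hEα hEe D b T
  refine ⟨⟨key, fun h => key3 (key2 h)⟩, ⟨fun h => key2 (key h), key3⟩, fun hT => ?_⟩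
  have hpos := posSub_of_torsionFree k hdim hpure hL htf
  have h1 := slopeLE_of_semistable hL hdim.le hE hpos α e hEα hEe T δ hδ hT
  have h2 := hN₂ m (by omega) (mc E) hE h1 (by rw [← mult_eq, hEα]) (by rw [chi_mc, hEe])
  rw [← mc_twist hL.1, V_mc] at h2
  exact h2

end K987.DecShCurve
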